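import Mathlib
import Cfsg.Agent.R20.Code
import Cfsg.Agent.R24.Defs

/-!
The group `M = 2^10 : L5(2)` in coordinates, its subgroups, and the stages of the recognition of a group in which `M`
is the normaliser of `2^10` (see `stubs/Cfsg/Agent/R20/PLAN.md`).
-/

set_option autoImplicit false

namespace Cfsg.Agent.R20

open Cfsg.Agent.Spor Cfsg.Agent.Inv.Fz Subgroup

noncomputable section

/-! ### The model -/

/-- A bivector and a matrix. -/
@[ext] structure M where
  a : ℕ
  lt : a < 1024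
  g : L5

instance : Mul M := ⟨fun x y => ⟨x.a ^^^ ac (cd x.g) y.a, Nat.xor_lt_two_pow (n := 10) x.lt (ac_lt _ _), x.g * y.g⟩⟩
instance : One M := ⟨⟨0, by norm_num, 1⟩⟩
instance : Inv M := ⟨fun x => ⟨ac (cd x.g⁻¹) x.a, ac_lt _ _, x.g⁻¹⟩⟩

theorem mul_a (x y : M) : (x * y).a = x.a ^^^ ac (cd x.g) y.a := rfl
theorem mul_g (x y : M) : (x * y).g = x.g * y.g := rfl
theorem one_a : (1 : M).a = 0 := rfl
theorem one_g : (1 : M).g = 1 := rfl
theorem inv_a (x : M) : x⁻¹.a = ac (cd x.g⁻¹) x.a := rfl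
theorem inv_g (x : M) : x⁻¹.g = x.g⁻¹ := rfl

instance : Group M := Group.ofLeftAxioms
  (fun x y z => M.ext (by simp only [mul_a, mul_g, ac_xor, ac_mul _ _ z.lt, Nat.xor_assoc]) (mul_assoc x.g y.g z.g))
  (fun x => M.ext (by rw [mul_a, one_a, one_g, ac_one x.lt, Nat.zero_xor]) (one_mul x.g))
  fun x => M.ext (Nat.xor_self (ac (cd x.g⁻¹) x.a)) (by rw [mul_g, inv_g, inv_mul_cancel, one_g])

instance : Finite M := Finite.of_injective (fun x : M => ((⟨x.a, x.lt⟩ : Fin 1024), x.g)) fun _ _ h =>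
  M.ext (congrArg (fun p => p.1.val) h) (congrArg Prod.snd h)

/-- The code of an element. -/
def M.c (x : M) : ℕ := x.a + 1024 * cd x.g
/-- The code with vector part `a` and matrix part `m`. -/
def pr (a m : ℕ) : ℕ := Nat.add a (Nat.mul 1024 m)
/-- The vector part of a code. -/
def ea (c : ℕ) : ℕ := Nat.land c 1023
/-- The matrix part of a code. -/
def em (c : ℕ) : ℕ := Nat.shiftRight c 10
/-- The product of codes. -/
def mu (c d : ℕ) : ℕ := Spor.force c fun c => Spor.force d fun d =>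
  pr (Nat.xor (ea c) (ac (em c) (ea d))) (mm (em c) (em d))
/-- The inverse of a code. -/
def iv (c : ℕ) : ℕ := Spor.force c fun c => Spor.force (mi (em c)) fun m => pr (ac m (ea c)) m
/-- The element with code `c`, if `ok (em c)`. -/
def ofc (c : ℕ) : M := ⟨c % 1024, Nat.mod_lt _ (by norm_num), el (c / 1024)⟩

/-- The element of `A` with code `a`. -/
def e (a : ℕ) : M := ⟨a % 1024, Nat.mod_lt _ (by norm_num), 1⟩
/-- The complement. -/
def ι : L5 →* M where
  toFun g := ⟨0, by norm_num, g⟩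
  map_one' := rfl
  map_mul' g h := M.ext ((Nat.zero_xor _).trans (ac_zero (cd g))).symm rfl
/-- The projection. -/
def π : M →* L5 where
  toFun x := x.g
  map_one' := rfl
  map_mul' _ _ := rfl
/-- The transvection `e_j ↦ e_j + e_i`. -/
def E (i j : ℕ) : L5 := el (idm + 2 ^ (5 * j + i))
/-- The transvection `e_4 ↦ e_4 + u`, `u < 16`. -/
def tu (u : ℕ) : L5 := el (idm + 1048576 * u)
/-- The upper unitriangular matrix with number `n < 1024`. -/
def ut (n : ℕ) : ℕ := Nat.add idm (Nat.add (Nat.mul 32 (Nat.land n 1)) (Nat.add (Nat.mul 1024 (Nat.land (Nat.shiftRight n 1) 3))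
  (Nat.add (Nat.mul 32768 (Nat.land (Nat.shiftRight n 3) 7)) (Nat.mul 1048576 (Nat.land (Nat.shiftRight n 6) 15)))))
/-- The element `ζ · (w ∧ e_4) · t_u` of `R`; `ζ < 64`, `w, u < 16`. -/
def rr (ζ w u : ℕ) : M := e (ζ + 64 * w) * ι (tu u)
/-- The part of the last column in the hyperplane `U = ⟨e_0, .., e_3⟩`. -/
def uu (m : ℕ) : ℕ := Nat.land (Nat.shiftRight m 20) 15

/-- The matrices with zero entries at the bits of `k`. -/
def pat (k : ℕ) : Subgroup L5 := closure {g | cd g &&& k = 0}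
/-- The elements with zero coordinates at the bits of `j` and zero matrix entries at the bits of `k`. -/
def sb (j k : ℕ) : Subgroup M := closure {x | x.a &&& j = 0 ∧ cd x.g &&& k = 0}

/-- Masks: identity, unitriangular, `t_u`, stabiliser of `U`, of `U` and `e_4`, of `⟨e_0, e_1⟩` and its radical. -/
abbrev kI : ℕ := 16510910
abbrev kT : ℕ := 549790
abbrev kE : ℕ := 782270
abbrev kP : ℕ := 541200
abbrev kK : ℕ := 16269840
abbrev kY : ℕ := 924
abbrev kQ : ℕ := 13263806
/-- The stabiliser of `⟨e_0, .., e_(i-1)⟩`, `1 ≤ i ≤ 4`. -/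
def kS (i : ℕ) : ℕ := getP 25 33554431 (nat_lit 0x8421000318c0000e7000003c000000) i

def A : Subgroup M := sb 0 kI
def Z : Subgroup M := sb 960 kI
def A1 : Subgroup M := sb 960 kE
def A2 : Subgroup M := closure {x | cd x.g &&& kE = 0 ∧ x.a / 64 = uu (cd x.g)}
def R : Subgroup M := sb 0 kE
def T : Subgroup M := sb 0 kT
def P : Subgroup M := sb 0 kP
def K : Subgroup M := sb 1023 kK
def Y : Subgroup M := sb 0 kY
def Q : Subgroup M := sb 800 kQ
/-- The three elementary abelian subgroups of order `2 ^ 10` in `T`. -/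
def Ai (i : Fin 3) : Subgroup M := ![A, A1, A2] i
/-- The central involution of `T`. -/
def z : M := e 1
/-- An element of order three on `⟨e_0, e_1⟩`. -/
def x3 : M := ι (E 0 1 * E 1 0)

/-- The code of a decomposable bivector. -/
def rk2 (a : ℕ) : Bool := Nat.testBit (nat_lit 0x1082040402008010801801080100801208001048020040140100401401004014080804001020201201020100201020108080404020201010101010101010101690000000000006900990000000000990000a500000000a5000000550000005500000000c30000c300000000003300330000000000000f0f6999a555c3330ffe) a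

/-- The automorphism of `P` that fixes `Z`, `A2`, `K` pointwise and swaps `A` and `A1`. -/
def thc (c : ℕ) : ℕ := Spor.force c fun c => Spor.force (uu (em c)) fun u => Spor.force (Nat.shiftRight (ea c) 6) fun w =>
  pr (Nat.add (Nat.xor (Nat.land c 63) (wg u w)) (Nat.mul 64 u)) (Nat.xor (em c) (Nat.mul 1048576 (Nat.xor u w)))
def th (x : M) : M := ofc (thc x.c)

/-- The orbits of `P` on `Ai i`: `0` is `1`, then the orbits of lengths `35, 28, 120, 840`. -/
def ty (x : M) : ℕ :=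
  if x.a < 64 ∧ x.g = 1 then (if x.a = 0 then 0 else if rk2 x.a then 1 else 2)
  else if rk2 (x.a % 64 + 64 * (x.a / 64 ||| uu (cd x.g))) then 3 else 4

variable {G : Type*} [Group G]

/-- The number of ordered pairs that span with `v` a plane inside `Ω`. -/
def pc (v : G) (Ω : Set G) : ℕ :=
  {p : G × G | p.1 ∈ Ω ∧ p.2 ∈ Ω ∧ v * p.1 ∈ Ω ∧ v * p.2 ∈ Ω ∧ p.1 * p.2 ∈ Ω ∧ v * p.1 * p.2 ∈ Ω}.ncard

/-! ### Stages -/

/-- An extension of the exterior square by `L5`. -/
structure Ex (N : Type*) [Group N] where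
  σ : N →* L5
  e : ℕ → N
  xor : ∀ a < 1024, ∀ b < 1024, e (a ^^^ b) = e a * e b
  inj : ∀ a < 1024, e a = 1 → a = 0
  ker : ∀ n, σ n = 1 ↔ ∃ a < 1024, n = e a
  surj : Function.Surjective σ
  act : ∀ n, ∀ a < 1024, n * e a * n⁻¹ = e (ac (cd (σ n)) a)

/-- A root element: an involution over `E 0 1` whose class meets its coset in one orbit of the kernel. -/
structure Ex.Rc {N : Type*} [Group N] (X : Ex N) (x : N) : Prop where
  img : X.σ x = E 0 1
  sq : x * x = 1
  cls : ∀ n, X.σ (n * x * n⁻¹) = E 0 1 → ∃ a < 1024, a &&& 949 = 0 ∧ n * x * n⁻¹ = X.e a * x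

/-- `M` as the normaliser of `A` in `G`. -/
structure Fr (G : Type*) [Group G] where
  φ : M →* G
  inj : Function.Injective φ
  nA : normalizer (A.map φ : Set G) ≤ φ.range

namespace Fr

variable (F : Fr G)

/-- The image of a subgroup of `M`. -/
abbrev m (H : Subgroup M) : Subgroup G := H.map F.φ
/-- The central involution. -/
abbrev z : G := F.φ R20.z
/-- Its centraliser. -/
abbrev C : Subgroup G := centralizer {F.z}

/-- Case I. -/
def C1 : Prop := normalizer (F.m R : Set G) ≤ F.m P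

/-- Case II: an involution that induces `th` on `R`. -/
structure Rf (r : G) : Prop where
  sq : r * r = 1
  onR : ∀ x ∈ R, r * F.φ x * r⁻¹ = F.φ (th x)
  onK : ∀ k ∈ K, ∃ a < 64, r * F.φ k * r⁻¹ = F.φ (e a * k)
  nR : normalizer (F.m R : Set G) ≤ F.m P ⊔ zpowers r
  dich : (∀ k ∈ K, r * F.φ k * r⁻¹ = F.φ k) ∨ ∃ x ∈ A2, x ∉ Z ∧ IsConj F.z (F.φ x)

/-- The Sylow subgroup in case II. -/
abbrev S (r : G) : Subgroup G := F.m T ⊔ zpowers r
/-- The group of order `2 ^ 11` in case II. -/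
abbrev V (r : G) : Subgroup G := F.m A2 ⊔ zpowers r

/-- A Sylow 2-subgroup `S0` of `G` that contains `T` with index at most two. -/
structure Sy (S0 : Subgroup G) : Prop where
  syl : IsSylIn 2 S0 ⊤
  le : F.m T ≤ S0
  cz : S0 ≤ F.C
  two : ∀ f ∈ S0, ∀ f' ∈ S0, f ∉ F.m T → f' ∉ F.m T → f * f' ∈ F.m T
  swap : ∀ f ∈ S0, f ∉ F.m T → cj f (F.m A) = F.m A1 ∧ cj f (F.m A1) = F.m A
  nQ : S0 ≤ normalizer (F.m Q : Set G)
  x3 : ∀ f ∈ S0, f * F.φ x3 * f⁻¹ * (F.φ x3)⁻¹ ∈ F.m Q ∨ f * F.φ x3 * f⁻¹ * F.φ x3 ∈ F.m Q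

/-- `Q` is large. -/
structure Lx : Prop where
  odd : R24.NoOdd F.z
  lg : Lg (F.m Q) F.z

/-- The four orbits of `P` on `A2` are not fused. -/
def Ft : Prop := ∀ x ∈ A2, ∀ y ∈ A2, IsConj (F.φ x) (F.φ y) → ty x = ty y

/-- Two frames that differ by `th`. -/
def Om (F' : Fr G) : Prop := ∀ x ∈ P, F'.φ x = F.φ (th x)

/-- The group generated by two frames. -/
def G0 (F' : Fr G) : Subgroup G := F.φ.range ⊔ F'.φ.range

/-- The end: `G1` is `G0` (and `A`, `A1` are not conjugate) or `G0 ⟨r⟩`. -/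
structure En (F' : Fr G) (S0 G1 : Subgroup G) : Prop where
  om : F.Om F'
  lx : F.Lx
  ft : F.Ft
  sy : F.Sy S0
  eq : G1 = F.G0 F' ⊔ S0
  nG : G1 ≤ normalizer (F.G0 F' : Set G)
  ww : ∀ c : G, cj c (F.m A) = F.m A1 → c ∈ G1
  fus : ∀ w ∈ G1, IsConj F.z w → ∃ g ∈ F.G0 F', g * F.z * g⁻¹ = w

end Fr

end

end Cfsg.Agent.R20
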