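import Mathlib
import Cfsg.Agent.R20.Gen

set_option autoImplicit false

namespace Cfsg.Agent.R20

open Cfsg.Agent.Spor Cfsg.Agent.Inv.Fz Subgroup

/-- The transvection `1 + p ⊗ s`. -/
def parTv (p s : ℕ) : ℕ := pk (1 ^^^ bt s 0 * p) (2 ^^^ bt s 1 * p) (4 ^^^ bt s 2 * p) (8 ^^^ bt s 3 * p) (16 ^^^ bt s 4 * p)

/-- Conjugating elements. -/
def parT : ℕ := nat_lit 0x826f826b0000825b00000000824b814f00000000814b000080cb804b0000606f00000000606b0000605b604b00000000404f404b0000204b00000000000086b586b40000000000000000869c8694000000008596859484958494000000000000000064b664b4649564940000000044954494000000000000000000000000826e0000826a00000000825a0000824a0000814e0000814a80ca0000804a00000000606e0000606a605a0000604a0000404e0000404a00000000204a0000000000000000000000008b318b308b288b20892589248922892000000000000000006925692469226920000000000000000000000000000000000000000000000000826d00000000826982590000000082490000814d81490000000080c9804900000000606d606900000000605960490000404d00000000404920490000000000000000000086b286b00000000086988690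8591859000000000849184900000000064b164b0000000006491649000000000000000004492449000000000000000000000826c000082680000825800008248814c00008148000080c8000080480000606c00006068000060580000604800000000404c0000404800002048000000008e258e248e228e208e118e108e088e00000000000000000000000000000000000000000000000000000000000000000000000000000000000000000000000000826700000000826300008253824300008147000000008143000080c38043000000006067606300006053000000006043000040474043000020430000000000000000000086a686a486858684000000000000000085868584848584840000000064a564a40000000000000000648c64844485448400000000000000000000000000008266000082628252000082420000000081460000814280c200008042000060660000606200000000605200006042404600004042000000002042000000008b058b048b028b000000000000000000890589048902890000000000000000000000000000000000691169106908690000000000000000000000000000000000000082658261000000008251824100000000814581410000000080c180410000606500000000606160510000000060414045000000004041204100000000000086a186a000000000868186800000000085818580000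0000084818480000000000000000064a264a000000000648864800000000044824480000000000000000082640000826000008250000082400000814400008140000080c0000080400000000060640000606000006050000060400000404400004040000020400000000000000000000000000000000000000000000000000000000000000000000000000000000000000000000000000000000000000000000000000000000000000000822f00000000822b0000821b820b00000000810f810b0000808b00000000800b602f00000000602b0000601b600b00000000400f400b0000200b000000000000000000008636863486158614000000008515851400000000000000008454841400000000643664346415641400000000441544140000000000000000000000000000822e0000822a821a0000820a0000810e0000810a00000000808a0000800a0000602e0000602a601a0000600a0000400e0000400a00000000200a000000008a258a248a228a200000000000000000000000000000000088a188a08860882068256824682268200000000000000000000000000000000000000000000000000000822d822900000000821982090000810d00000000810980890000000080090000602d602900000000601960090000400d0000000040092009000000000000863186300000000086118610000000000000000085128510000000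00845084106431643000000000641164100000000000000000441244100000000000000000822c00008228000082180000820800000000810c000081080000808800008008602c00006028000060180000600800000000400c000040080000200800000000000000000000000000000000000000008d058d048d028d008c818c808c408c00000000000000000000000000000000000000000000000000000000000000000000008227822300008213000000008203000081078103000080830000000080030000602760230000601300000000600300004007400300002003000000000000862586240000000000000000860c860485058504000000000000000084448404642564240000000000000000640c6404440544040000000000000000000000008226000082220000000082120000820281060000810200000000808200008002602600006022000000006012000060024006000040020000000020020000000000000000000000008a118a108a088a0000000000000000008881888088408800000000000000000068116810680868000000000000000000000000000000000082250000000082218211000000008201810500000000810180810000000080016025000000006021601100000000600140050000000040012001000000000000000000008622862000000000860886000000000085028500000000008440840000000000642264200000000064086400000000004402440000000000000000000000822400008220000082100000820000008104000081000000808000008000000060240000602000006010000060000000400400004000000020000000000000000000000000000000000000000000000000000000000000000000000000000000000000000000000000000000000000000000000000000000000000000000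

theorem par_key : ∀ p < 32, ∀ s < 32, ok (parTv p s) = true → ∀ d < 5, ∀ c < d, s.testBit c = true → p.testBit d = true →
    ∃ a ≤ c, ∃ b < 5, d ≤ b ∧ ∃ n < 1024, mm (ut n) (parTv p s) = mm (idm + 2 ^ (5 * a + b)) (ut n) := by
  have : allLt 32 (fun p => allLt 32 fun s => Spor.force (getP 16 65535 parT (p + 32 * s)) fun t =>
      Spor.force (parTv p s) fun m => !ok m || Spor.force
        (mm (ut (t % 1024)) m - mm (idm + 2 ^ (5 * (t / 1024 % 8) + t / 8192)) (ut (t % 1024)) +
          (mm (idm + 2 ^ (5 * (t / 1024 % 8) + t / 8192)) (ut (t % 1024)) - mm (ut (t % 1024)) m)) fun x =>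
        allLt 5 fun d => allLt d fun c => !s.testBit c || !p.testBit d ||
          decide (t / 1024 % 8 ≤ c) && decide (d ≤ t / 8192) && decide (t / 8192 < 5) && decide (x = 0)) = true := by
    decide +kernel
  intro p hp s hs h d hd c hc h1 h2
  have a := (allLt_iff _ _).1 ((allLt_iff _ _).1 this p hp) s hs
  simp only [Spor.force_eq, h, Bool.not_true, Bool.false_or] at a
  have b := (allLt_iff _ _).1 ((allLt_iff _ _).1 a d hd) c hc
  simp only [h1, h2, Bool.not_true, Bool.false_or, Bool.and_eq_true, decide_eq_true_eq] at b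
  obtain ⟨⟨⟨a1, a2⟩, a3⟩, a4⟩ := b
  exact ⟨_, a1, _, a3, a2, _, Nat.mod_lt (getP 16 65535 parT (p + 32 * s)) (by norm_num), by omega⟩

theorem par_E : ∀ a < 5, ∀ b < 5, a ≠ b → ∀ v < 32, ap (idm + 2 ^ (5 * b + a)) v = v ^^^ bt v b * 2 ^ a := by
  decide +kernel

theorem par_cj (h : L5) {a b : ℕ} (ha : a < 5) (hb : b < 5) (hab : a ≠ b) : cd (h * E a b * h⁻¹) =
    parTv (col (cd h) a) (Nat.ofBits (n := 5) fun j => (cd h⁻¹).testBit (5 * j + b)) := by
  have k : ∀ s, ∀ j < 5, 2 ^ j ^^^ bt s j * col (cd h) a < 32 := fun s j hj => Nat.xor_lt_two_pow (n := 5)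
    (Nat.pow_lt_pow_right one_lt_two hj) (by rw [bt_eq]; split_ifs <;> simp [col_lt])
  generalize hs : Nat.ofBits (n := 5) _ = s
  have e := col_pk (k s 0 (by norm_num)) (k s 1 (by norm_num)) (k s 2 (by norm_num)) (k s 3 (by norm_num)) (k s 4 (by norm_num))
  refine eq_of_col (cd_lt _) e.2.2.2.2.2 fun j hj => Eq.trans (b := 2 ^ j ^^^ bt s j * col (cd h) a) ?_ ?_
  · have c : ap (cd h) (col (cd h⁻¹) j) = 2 ^ j := by
      rw [← ap_pow _ hj]
      simpa using ap_cd_inv h⁻¹ (Nat.pow_lt_pow_right (m := j) (n := 5) one_lt_two hj)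
    rw [mul_assoc, cd_mul, cd_mul, col_mm _ _ hj, col_mm _ _ hj, cd_E ha hb hab, par_E a ha b hb hab _ (col_lt _ _), ap_xor, c,
      bt_eq, bt_eq, ← hs, Nat.testBit_ofBits_lt _ _ hj, testBit_col _ _ _ hb]
    split_ifs <;> simp [ap_pow _ ha, ap_zero]
  · interval_cases j
    exacts [e.1.symm, e.2.1.symm, e.2.2.1.symm, e.2.2.2.1.symm, e.2.2.2.2.1.symm]

theorem par_UT {i j : ℕ} (h : i < j) (hj : j < 5) : E i j ∈ pat kT := by
  rw [mem_pat (by decide +kernel), cd_E (h.trans hj) hj h.ne]
  revert i j
  exact fun {i j} h hj => (by decide +kernel : ∀ j < 5, ∀ i < j, (idm + 2 ^ (5 * j + i)) &&& kT = 0) j hj i h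

theorem par_rel {H : Subgroup L5} {i j k : ℕ} (hi : i < 5) (hj : j < 5) (hk : k < 5) (h1 : i ≠ j) (h2 : j ≠ k) (h3 : i ≠ k)
    (a : E i j ∈ H) (b : E j k ∈ H) : E i k ∈ H :=
  E_rel i hi j hj k hk h1 h2 h3 ▸ mul_mem (mul_mem (mul_mem a b) a) b

theorem par_ok : ∀ i ≤ 4, patOK (kS i) = true ∧ kS i < 2 ^ 25 ∧ ∀ k < 25, (kS i).testBit k = true → k / 5 < i ∧ i ≤ k % 5 := by
  decide +kernel

theorem par_bit {g : L5} {i : ℕ} (h4 : i ≤ 4) (h : g ∉ pat (kS i)) :
    ∃ a < i, ∃ d < 5, i ≤ d ∧ (cd g).testBit (5 * a + d) = true := by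
  rw [mem_pat (par_ok i h4).1] at h
  obtain ⟨k, hk⟩ := Nat.exists_testBit_of_ne_zero h
  rw [Nat.testBit_and, Bool.and_eq_true] at hk
  have a := (par_ok i h4).2.2 k (by
    by_contra c
    rw [Nat.testBit_lt_two_pow ((par_ok i h4).2.1.trans_le (Nat.pow_le_pow_right two_pos (not_lt.1 c)))] at hk
    simp at hk) hk.2
  exact ⟨_, a.1, _, Nat.mod_lt _ (by norm_num), a.2, by rw [Nat.div_add_mod]; exact hk.1⟩

theorem le_kS {H : Subgroup L5} (hT : pat kT ≤ H) {i : ℕ} (h1 : 1 ≤ i) (h4 : i ≤ 4) (hy : E i (i - 1) ∉ H) : H ≤ pat (kS i) := by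
  intro h hh
  by_contra c
  obtain ⟨a, ha, d, hd, hid, e1⟩ := par_bit h4 c
  obtain ⟨c, hc, b, hb, hib, e2⟩ := par_bit h4 (mt inv_mem_iff.1 c)
  have ht := mul_mem (mul_mem hh (hT (par_UT (ha.trans_le hib) hb))) (inv_mem hh)
  have e := par_cj h (by omega : a < 5) hb (by omega)
  obtain ⟨a', ha', b', hb', hd', n, hn, e3⟩ := par_key _ (col_lt _ _) _ (Nat.ofBits_lt_two_pow _) (e ▸ ok_cd _) d hd c (by omega)
    ((Nat.testBit_ofBits_lt _ _ (by omega)).trans e2) ((testBit_col _ _ _ hd).trans e1)
  have hu : el (ut n) ∈ H := hT (mem_UT.2 ⟨n, hn, cd_el (ok_ut n hn)⟩)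
  rw [← e, ← cd_E hb' (by omega) (by omega), ← cd_el (ok_ut n hn), ← cd_mul, ← cd_mul] at e3
  have a1 : E b' a' ∈ H := (mul_mem_cancel_right hu).1 (cd_inj e3 ▸ mul_mem hu ht)
  have a2 : E i a' ∈ H := by
    rcases (hid.trans hd').lt_or_eq with l | rfl
    exacts [par_rel (by omega) hb' (by omega) l.ne (by omega) (by omega) (hT (par_UT l hb')) a1, a1]
  rcases (by omega : a' ≤ i - 1).lt_or_eq with l | rfl
  exacts [hy (par_rel (by omega) (by omega) (by omega) (by omega) l.ne (by omega) a2 (hT (par_UT l (by omega)))), hy a2]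

theorem E_mem_kS : ∀ i ≤ 4, ∀ j ≤ 4, 1 ≤ i → 1 ≤ j → (E i (i - 1) ∈ pat (kS j) ↔ i ≠ j) := fun i hi j hj h1 h2 => by
  rw [mem_pat (par_ok j hj).1, cd_E (by omega) (by omega) (by omega)]
  exact (by decide +kernel : ∀ i ≤ 4, ∀ j ≤ 4, 1 ≤ i → 1 ≤ j → ((idm + 2 ^ (5 * (i - 1) + i)) &&& kS j = 0 ↔ i ≠ j))
    i hi j hj h1 h2

/-- The parabolic subgroup with the set `J` (bits `1 .. 4`) of stabilised subspaces. -/
def kJ (J : ℕ) : ℕ := (if J.testBit 1 then kS 1 else 0) ||| (if J.testBit 2 then kS 2 else 0) |||
  (if J.testBit 3 then kS 3 else 0) ||| if J.testBit 4 then kS 4 else 0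

theorem kJ_mod (J : ℕ) : kJ (J % 2 ^ 5) = kJ J := by simp [kJ, Nat.testBit_mod_two_pow, -Nat.reducePow]

set_option synthInstance.maxSize 2000 in
theorem par_J : ∀ J < 2 ^ 5, patOK (kJ J) = true ∧ (∀ i < 5, ∀ j < i, (kJ J).testBit (5 * j + i) = false →
    ∀ l ≤ i, j < l → J.testBit l = false) ∧ 0 < cp (kJ J) ∧ 9999360 / cp (kJ J) ∈ [1, 31, 155, 465, 1085, 3255, 9765] ∧
    (J.testBit 1 && J.testBit 3 || J.testBit 2 && J.testBit 3 || J.testBit 2 && J.testBit 4 → 1085 ≤ 9999360 / cp (kJ J)) := by
  decide +kernel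

theorem ok_kJ (J : ℕ) : patOK (kJ J) = true := kJ_mod J ▸ (par_J _ (Nat.mod_lt _ (by norm_num))).1

theorem kJ_le {H : Subgroup L5} (hT : pat kT ≤ H) {J : ℕ} (h : ∀ i ≤ 4, 1 ≤ i → J.testBit i = false → E i (i - 1) ∈ H) :
    pat (kJ J) ≤ H := pat_le (ok_kJ J) fun i hi j hj hij hk => by
  rcases hij.lt_or_gt with l | l
  · exact hT (par_UT l hj)
  have a := (par_J _ (Nat.mod_lt J (by norm_num))).2.1 i hi j l (kJ_mod J ▸ hk)
  clear hk hij
  induction i with
  | zero => omega
  | succ i ih =>
    have b := h (i + 1) (by omega) (by omega) (by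
      simpa [Nat.testBit_mod_two_pow, hi, -Nat.reducePow] using a (i + 1) le_rfl l)
    rcases (Nat.lt_succ_iff.1 l).lt_or_eq with l' | rfl
    exacts [par_rel hi (by omega) hj (by omega) l'.ne' l.ne' b (ih (by omega) l' fun l h => a l (by omega)), b]

theorem eq_kJ {H : Subgroup L5} (hT : pat kT ≤ H) {J : ℕ} (h : ∀ i ≤ 4, 1 ≤ i → (E i (i - 1) ∈ H ↔ J.testBit i = false)) :
    H = pat (kJ J) := by
  refine le_antisymm (fun g hg => (mem_pat (ok_kJ J)).2 ?_) (kJ_le hT fun i h4 h1 => (h i h4 h1).2)
  have a : ∀ i ≤ 4, 1 ≤ i → cd g &&& (if J.testBit i then kS i else 0) = 0 := fun i h4 h1 => by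
    split_ifs with c
    · exact (mem_pat (par_ok i h4).1).1 (le_kS hT h1 h4 (fun e => by simp [(h i h4 h1).1 e] at c) hg)
    · simp
  simp only [kJ, Nat.and_or_distrib_left, a 1 (by norm_num) le_rfl, a 2 (by norm_num) (by norm_num),
    a 3 (by norm_num) (by norm_num), a 4 le_rfl (by norm_num), Nat.or_self]

theorem norm_UT : normalizer (pat kT : Set L5) ≤ pat kT := by
  refine (eq_kJ le_normalizer (J := 30) fun i h4 h1 => iff_of_false (fun h => ?_) ?_).le
  · have a := (mem_pat (by decide +kernel)).1 ((mem_normalizer_iff.1 h _).1 (par_UT (by omega : i - 1 < i) (by omega)))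
    rw [cd_mul, cd_mul, cd_inv, cd_E (by omega) (by omega) (by omega), cd_E (by omega) (by omega) (by omega)] at a
    revert a
    interval_cases i <;> decide +kernel
  · interval_cases i <;> decide

theorem P_max {H : Subgroup L5} (h : pat kP < H) : H = ⊤ := by
  have a : pat kT ≤ H := (pat_le (by decide +kernel) fun i hi j hj hij hk => (mem_pat (by decide +kernel)).2 (by
    rw [cd_E hi hj hij]
    exact (by decide +kernel : ∀ i < 5, ∀ j < 5, i ≠ j → kT.testBit (5 * j + i) = false → (idm + 2 ^ (5 * j + i)) &&& kP = 0)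
      i hi j hj hij hk)).trans h.le
  refine top_le_of_E fun i hi => ⟨a (par_UT i.lt_succ_self (by omega)), ?_⟩
  by_cases c : i = 3
  · subst c
    exact by_contra fun c => h.not_ge (le_kS a (i := 4) (by norm_num) le_rfl c)
  · exact h.le ((E_mem_kS (i + 1) hi 4 le_rfl (by omega) (by norm_num)).2 (by omega))

theorem par_idx {H : Subgroup L5} (hT : pat kT ≤ H) : ∃ J < 2 ^ 5, H.index = 9999360 / cp (kJ J) ∧
    ∀ i ≤ 4, 1 ≤ i → E i (i - 1) ∉ H → J.testBit i = true := by
  classical
  have a : ∀ i ≤ 4, (Nat.ofBits (n := 5) fun i => decide (E i (i - 1) ∉ H)).testBit i = decide (E i (i - 1) ∉ H) :=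
    fun i hi => Nat.testBit_ofBits_lt _ _ (by omega)
  refine ⟨_, Nat.ofBits_lt_two_pow _, ?_, fun i hi _ h => (a i hi).trans (decide_eq_true h)⟩
  generalize hJ : Nat.ofBits (n := 5) _ = J at a
  rw [eq_kJ hT (J := J) fun i hi _ => by simp [a i hi], ← card_L5, ← (pat (kJ J)).index_mul_card, card_pat (ok_kJ J),
    Nat.mul_div_cancel _ (par_J J (hJ ▸ Nat.ofBits_lt_two_pow _)).2.2.1]

theorem index_ge {H : Subgroup L5} (hT : pat kT ≤ H) {i j : ℕ} (hi : E i (i - 1) ∉ H) (hj : E j (j - 1) ∉ H)
    (h : (i, j) = (1, 3) ∨ (i, j) = (2, 3) ∨ (i, j) = (2, 4)) : 1085 ≤ H.index := by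
  obtain ⟨J, hJ, e, a⟩ := par_idx hT
  refine e ▸ (par_J J hJ).2.2.2.2 ?_
  simp only [Prod.mk.injEq] at h
  rcases h with ⟨rfl, rfl⟩ | ⟨rfl, rfl⟩ | ⟨rfl, rfl⟩ <;>
    simp [a _ (by norm_num) (by norm_num) hi, a _ (by norm_num) (by norm_num) hj]

theorem index_mem {H : Subgroup L5} (h : Odd H.index) : H.index ∈ [1, 31, 155, 465, 1085, 3255, 9765] := by
  obtain ⟨S, hS, -⟩ := exists_isSylIn (p := 2) (H := H) IsPGroup.of_bot bot_le
  obtain ⟨g, -, e⟩ := syl_UT.exists_cj_eq (isSylIn_of_not_dvd le_top hS.isPGroup (by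
    rw [relIndex_top_right, ← relIndex_mul_index hS.le, Nat.prime_two.dvd_mul]
    exact not_or.2 ⟨hS.not_dvd_relIndex, h.not_two_dvd_nat⟩))
  obtain ⟨J, hJ, e', -⟩ := par_idx (e ▸ cj_mono hS.le : pat kT ≤ cj g H)
  rw [← relIndex_top_right, ← relIndex_cj g, cj_eq_of_normal g ⊤, relIndex_top_right, e']
  exact (par_J J hJ).2.2.2.1

theorem par_P {N : Subgroup M} (h : P ≤ N) (hy : ∀ x ∈ N, x.g ≠ E 4 3) : N ≤ P := fun x hx =>
  mem_P.2 (le_kS (H := N.map π) (fun g hg => ⟨ι g, h (T_le_P (mem_T.2 hg)), rfl⟩) (i := 4) (by norm_num) le_rfl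
    (fun ⟨y, h1, h2⟩ => hy y h1 h2) ⟨x, hx, rfl⟩)

theorem norm_Z : normalizer (Z : Set M) ≤ P := par_P P_le_nZ fun x hx h => by
  obtain ⟨a, ha, e⟩ := mem_Z.1 ((mem_normalizer_iff.1 hx _).1 (mem_Z.2 ⟨8, by norm_num, rfl⟩))
  rw [conj_e x (by norm_num), h, cd_E (by norm_num) (by norm_num) (by norm_num)] at e
  rw [← e_inj (ac_lt _ _) (by omega) e] at ha
  revert ha
  decide +kernel

theorem norm_R : normalizer (R : Set M) ≤ P := par_P P_le_nR fun x hx h => by
  have a := (mem_pat (by decide +kernel)).1 (mem_R'.1 ((mem_normalizer_iff.1 hx (ι (E 3 4))).1 (mem_R'.2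
    ((mem_pat (by decide +kernel)).2 (by rw [ι_g, cd_E (by norm_num) (by norm_num) (by norm_num)]; decide +kernel)))))
  rw [mul_g, mul_g, inv_g, h, ι_g, cd_mul, cd_mul, cd_inv, cd_E (by norm_num) (by norm_num) (by norm_num),
    cd_E (by norm_num) (by norm_num) (by norm_num)] at a
  revert a
  decide +kernel

theorem norm_T : normalizer (T : Set M) ≤ T := fun x hx => mem_T.2 (norm_UT (mem_normalizer_of_conj_mem fun g hg => by
  have a := mem_T.1 ((mem_normalizer_iff.1 hx (ι g)).1 (mem_T.2 (by rwa [ι_g])))
  rwa [mul_g, mul_g, inv_g, ι_g] at a))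

theorem le_A_of_normal {H : Subgroup M} (hn : H.Normal) (h2 : IsPGroup 2 H) : H ≤ A := fun x hx => by
  rcases simple_L5.eq_bot_or_eq_top_of_normal _ (hn.map π fun g => ⟨ι g, rfl⟩) with h | h
  · exact mem_A.2 (mem_bot.1 (h ▸ mem_map_of_mem π hx))
  · obtain ⟨n, e⟩ := (h2.map π).exists_card_eq
    rw [h, card_top, card_L5] at e
    have : 3 ∣ 2 ^ n := e ▸ (by norm_num : 3 ∣ 9999360)
    exact absurd (Nat.prime_three.dvd_of_dvd_pow this) (by norm_num)

end Cfsg.Agent.R20
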