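import Mathlib
import Cfsg.Agent.R20.Orb
import Cfsg.Agent.R20.JN

/-! Facts in the model `M` for the end of type `J4`. -/

set_option autoImplicit false

namespace Cfsg.Agent.R20.JN

open Cfsg.Agent.Spor Cfsg.Agent.Inv.Fz Subgroup

noncomputable section

/-- The element of `A2` with number `n`. -/
def bn (n : ℕ) : M := rr (n % 64) (n / 64 % 16) (n / 64 % 16)

theorem m64 (n : ℕ) : n % 64 < 64 := Nat.mod_lt _ (by norm_num)
theorem m16 (n : ℕ) : n % 16 < 16 := Nat.mod_lt _ (by norm_num)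

theorem bn_mem (n : ℕ) : bn n ∈ A2 := mem_A2.2 ⟨_, m64 _, _, m16 _, rfl⟩

theorem bn_eq {ζ u : ℕ} (hζ : ζ < 64) (hu : u < 16) (k : ℕ) : bn (ζ + 64 * u + 1024 * k) = rr ζ u u := by
  rw [bn, show (ζ + 64 * u + 1024 * k) % 64 = ζ by omega, show (ζ + 64 * u + 1024 * k) / 64 % 16 = u by omega]

theorem exists_bn {x : M} (hx : x ∈ A2) : ∃ n < 1024, bn n = x ∧ bn (n + 1024) = x := by
  obtain ⟨ζ, hζ, u, hu, rfl⟩ := mem_A2.1 hx
  exact ⟨ζ + 64 * u, by omega, bn_eq hζ hu 0, bn_eq hζ hu 1⟩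

theorem bn_inj {n m : ℕ} (h : bn n = bn m) : n % 1024 = m % 1024 := by
  have := rr_inj (m64 _) (m16 _) (m16 _) (m64 _) (m16 _) (m16 _) h
  omega

theorem rr_zero {ζ w : ℕ} (hζ : ζ < 64) (hw : w < 16) : rr ζ w 0 = e (ζ + 64 * w) :=
  c_inj (by rw [c_rr hζ hw (by norm_num), c_e (by omega)]; rfl)

theorem bn_e {n : ℕ} (hn : n < 64) : bn n = e n := by
  have := bn_eq hn (u := 0) (by norm_num) 0
  rwa [rr_zero hn (by norm_num)] at this

theorem ty_bn {n : ℕ} (hn : n < 1024) : ty (bn n) = tc n := by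
  rw [bn, ty_rr (m64 _) (m16 _) (m16 _), tc, Nat.or_self, show n % 64 + 64 * (n / 64 % 16) = n by omega]
  by_cases h : n < 64
  · rw [if_pos h, if_pos (by omega), Nat.mod_eq_of_lt h]
  · rw [if_neg h, if_neg (by omega)]

theorem a_bn {n : ℕ} (hn : n < 1024) : (bn n).a = n := by
  rw [← ea_c, bn, c_rr (m64 _) (m16 _) (m16 _), show n % 64 + 64 * (n / 64 % 16) = n by omega]
  change (n + 1024 * _) &&& (2 ^ 10 - 1) = n
  rw [Nat.and_two_pow_sub_one_eq_mod]
  omega

theorem e_mul_rr {a ζ w u : ℕ} (ha : a < 64) (hζ : ζ < 64) (hw : w < 16) (hu : u < 16) :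
    e a * rr ζ w u = rr (a ^^^ ζ) w u := by
  have := rr_mul ha (w := 0) (u := 0) (by norm_num) (by norm_num) hζ hw hu
  rwa [rr_zero ha (by norm_num), wg_zero (by omega), Nat.xor_zero, Nat.zero_xor, Nat.zero_xor] at this

theorem ty_mul {x : M} (hx : x ∈ A2) (h : ty x = 3) : ty (e 12 * x) = 4 ∧ ty (e 14 * x) = 4 := by
  have k : allLt 64 (fun ζ => allLt 16 fun u => decide (tc (ζ + 64 * u) = 3 →
    tc ((12 ^^^ ζ) + 64 * u) = 4 ∧ tc ((14 ^^^ ζ) + 64 * u) = 4)) = true := by decide +kernel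
  simp only [allLt_iff, decide_eq_true_eq] at k
  obtain ⟨ζ, hζ, u, hu, rfl⟩ := mem_A2.1 hx
  have t : ∀ a < 64, ty (rr a u u) = tc (a + 64 * u) := fun a ha => by rw [← bn_eq ha hu 0]; exact ty_bn (by omega)
  rw [e_mul_rr (by norm_num) hζ hu hu, e_mul_rr (by norm_num) hζ hu hu, t _ (Nat.xor_lt_two_pow (n := 6) (by norm_num) hζ),
    t _ (Nat.xor_lt_two_pow (n := 6) (by norm_num) hζ)]
  exact k ζ hζ u hu (t ζ hζ ▸ h)

theorem comm_rr {ζ u k : ℕ} (hζ : ζ < 64) (hu : u < 16) (hk : k < 16) :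
    e (64 * k) * rr ζ u u * (e (64 * k))⁻¹ = e (wg k u) * rr ζ u u := by
  have h0 : (0 : ℕ) < 64 := by norm_num
  have h1 : (0 : ℕ) < 16 := by norm_num
  have e1 : e (64 * k) = rr 0 k 0 := by rw [rr_zero h0 hk, Nat.zero_add]
  rw [e_inv, e_mul_rr (wg_lt64 _ hk _ hu) hζ hu hu, e1, rr_mul h0 hk h1 hζ hu hu, wg_zero (by omega), Nat.xor_zero,
    Nat.zero_xor, Nat.zero_xor, rr_mul hζ (Nat.xor_lt_two_pow (n := 4) hk hu) hu h0 hk h1]
  congr 1
  · rw [Nat.xor_zero, Nat.xor_comm]
  · rw [Nat.xor_comm k, Nat.xor_assoc, Nat.xor_self, Nat.xor_zero]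
  · exact Nat.xor_zero _

theorem ι_mem_K {m : ℕ} (h : ok m = true) (hm : m &&& kK = 0) : ι (el m) ∈ K :=
  mem_K.2 ⟨rfl, (mem_pat (by decide +kernel)).2 (by rw [ι_g, cd_el h]; exact hm)⟩

/-- An element of order five that fixes `e 12`. -/
def g5 : M := ι (el 16812203)

theorem cd_g5 : cd g5.g = 16812203 := by
  have : ok 16812203 = true := by decide +kernel
  rw [g5, ι_g, cd_el this]
theorem g5_mem : g5 ∈ K := ι_mem_K (by decide +kernel) (by decide)
theorem g5_comm : g5 * e 12 * g5⁻¹ = e 12 := by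
  rw [conj_e _ (by norm_num), cd_g5]
  exact congrArg e (by decide +kernel)

/-- A subgroup that meets `A2` outside `Z` and is invariant under `A` and `g5` contains `A2`. -/
theorem A2_le {H : Subgroup M} (h1 : ∀ x ∈ H, ∀ a, e a * x * (e a)⁻¹ ∈ H) (h2 : ∀ x ∈ H, g5 * x * g5⁻¹ ∈ H)
    {x : M} (hx : x ∈ A2) (hZ : x ∉ Z) (hH : x ∈ H) : A2 ≤ H := by
  obtain ⟨ζ, hζ, u, hu, rfl⟩ := mem_A2.1 hx
  have u0 : u ≠ 0 := by
    rintro rfl
    exact hZ (mem_Z.2 ⟨ζ, hζ, rr_zero hζ hu⟩)
  let p : ℕ → Prop := fun u => u < 16 ∧ ∃ ζ < 64, rr ζ u u ∈ H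
  have p1 : ∀ u v, p u → p v → p (u ^^^ v) := fun u v ⟨hu, ζ, hζ, a⟩ ⟨hv, ζ', hζ', b⟩ =>
    ⟨Nat.xor_lt_two_pow (n := 4) hu hv, _, Nat.xor_lt_two_pow (n := 6) (Nat.xor_lt_two_pow (n := 6) hζ hζ')
      (wg_lt64 _ hv _ hu), rr_mul hζ hu hu hζ' hv hv ▸ mul_mem a b⟩
  have p2 : ∀ u, p u → p (ap 16812203 u) := fun u ⟨hu, ζ, hζ, a⟩ => by
    have := h2 _ a
    rw [conj_rr g5_mem hζ hu hu] at this
    exact cd_g5 ▸ ⟨(K_lt g5_mem).2 u hu, _, (K_lt g5_mem).1 ζ hζ, this⟩
  have p0 : p 0 := by simpa using p1 u u ⟨hu, ζ, hζ, hH⟩ ⟨hu, ζ, hζ, hH⟩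
  have k : ∀ u < 16, u ≠ 0 → ∀ v < 16, ∃ a ∈ [0, u], ∃ b ∈ [0, ap 16812203 u], ∃ c ∈ [0, ap 16812203 (ap 16812203 u)],
      ∃ d ∈ [0, ap 16812203 (ap 16812203 (ap 16812203 u))], v = a ^^^ b ^^^ c ^^^ d := by decide +kernel
  have q : ∀ {a w}, a ∈ [0, w] → p w → p a := fun ha hw => by
    rcases List.mem_pair.1 ha with rfl | rfl
    exacts [p0, hw]
  have pu : p u := ⟨hu, ζ, hζ, hH⟩
  have pa : ∀ v < 16, p v := fun v hv => by
    obtain ⟨a, ha, b, hb, c, hc, d, hd, rfl⟩ := k u hu u0 v hv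
    exact p1 _ _ (p1 _ _ (p1 _ _ (q ha pu) (q hb (p2 _ pu))) (q hc (p2 _ (p2 _ pu)))) (q hd (p2 _ (p2 _ (p2 _ pu))))
  have w1 : ∀ k < 16, ∀ v < 16, e (wg k v) ∈ H := fun k hk v hv => by
    obtain ⟨-, ζ, hζ, a⟩ := pa v hv
    have := h1 _ a (64 * k)
    rw [comm_rr hζ hv hk] at this
    exact (mul_mem_cancel_right a).1 this
  have w2 : ∀ a < 64, e a ∈ H := xor_ind (n := 6) (e_zero ▸ one_mem _) (fun j hj => by
    obtain ⟨k, hk, v, hv, e⟩ : ∃ k < 16, ∃ v < 16, wg k v = 2 ^ j := by revert j; decide +kernel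
    exact e ▸ w1 k hk v hv) fun a ha b hb h h' => e_xor (a := a) (b := b) (by omega) (by omega) ▸ mul_mem h h'
  intro y hy
  obtain ⟨ζ', hζ', v, hv, rfl⟩ := mem_A2.1 hy
  obtain ⟨-, η, hη, a⟩ := pa v hv
  have l := Nat.xor_lt_two_pow (n := 6) hζ' hη
  have := mul_mem (w2 _ l) a
  rwa [e_mul_rr l hη hv hv, Nat.xor_assoc, Nat.xor_self, Nat.xor_zero] at this

theorem mem_R_of_Q {x : M} (hx : x ∈ Q) (h : ∀ a ∈ [2, 4, 8, 16], x * e a * x⁻¹ = e a) : x ∈ R := by
  have k : allLt 1024 (fun n => bor (!Nat.beq (Nat.land (ut n) kQ) 0) (Spor.force (mx (ut n)) fun m =>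
    bor (!(band (Nat.beq (apm m 2) 2) (band (Nat.beq (apm m 4) 4) (band (Nat.beq (apm m 8) 8) (Nat.beq (apm m 16) 16)))))
      (Nat.beq (Nat.land (ut n) kE) 0))) = true := by decide +kernel
  obtain ⟨n, hn, e1⟩ := mem_UT.1 (mem_T.1 (T0_le_T (Q_le_T0 hx)))
  have t : ∀ a ∈ [2, 4, 8, 16], apm (mx (ut n)) a = a := fun a ha => by
    have l : a < 1024 := by revert a; decide
    have := h a ha
    rw [conj_e _ l, e1] at this
    exact e_inj (ac_lt _ _) l this
  have k1 := (allLt_iff _ _).1 k n hn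
  rw [Spor.force_eq, t 2 (by simp), t 4 (by simp), t 8 (by simp), t 16 (by simp), Nat.land_eq, ← e1, (mem_Q.1 hx).2] at k1
  exact mem_R'.2 ((mem_pat (by decide +kernel)).2 (by simpa [bor_iff, band] using k1))

theorem mem_Z_of_comm {x : M} (hx : x ∈ A2) (h1 : e 64 * x = x * e 64) (h2 : e 128 * x = x * e 128) : x ∈ Z := by
  obtain ⟨ζ, hζ, u, hu, rfl⟩ := mem_A2.1 hx
  have k : ∀ u < 16, wg 1 u = 0 → wg 2 u = 0 → u = 0 := by decide +kernel
  have t : ∀ j < 16, e (64 * j) * rr ζ u u = rr ζ u u * e (64 * j) → wg j u = 0 := fun j hj h => by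
    have := comm_rr hζ hu hj
    rw [h, mul_inv_cancel_right, eq_comm, mul_eq_right, ← e_zero] at this
    exact e_inj ((wg_lt64 _ hj _ hu).trans (by norm_num)) (by norm_num) this
  obtain rfl := k u hu (t 1 (by norm_num) h1) (t 2 (by norm_num) h2)
  exact mem_Z.2 ⟨ζ, hζ, rr_zero hζ hu⟩

/-! ### Words in two generators of `K` -/

/-- The codes of the generators. -/
def gc (b : Bool) : ℕ := Bool.rec 16883842 17076289 b
/-- The element of a word. -/
def gw : List Bool → M
  | [] => 1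
  | b :: w => ι (el (gc b)) * gw w
/-- Its matrix. -/
def mc : List Bool → ℕ
  | [] => idm
  | b :: w => mm (gc b) (mc w)
/-- The affine action on `Z`. -/
def ev (c ζ : ℕ) : List Bool → ℕ
  | [] => ζ
  | b :: w => Nat.xor (ac (gc b) (ev c ζ w)) (Bool.rec 0 c b)

theorem ok_gc (b : Bool) : ok (gc b) = true := by cases b <;> decide +kernel
theorem gc_mem (b : Bool) : ι (el (gc b)) ∈ K := ι_mem_K (ok_gc b) (by cases b <;> decide)
theorem gw_mem : ∀ w, gw w ∈ K
  | [] => one_mem _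
  | b :: w => mul_mem (gc_mem b) (gw_mem w)
theorem cd_gw : ∀ w, cd (gw w).g = mc w
  | [] => cd_one
  | b :: w => by rw [gw, mul_g, cd_mul, ι_g, cd_el (ok_gc b), cd_gw w, mc]
theorem gw_eq_one {w : List Bool} (h : mc w = idm) : gw w = 1 :=
  M.ext (mem_K.1 (gw_mem w)).1 (cd_inj (by rw [cd_gw, h, one_g, cd_one]))
theorem gc_lt (b : Bool) {ζ : ℕ} (h : ζ < 64) : ac (gc b) ζ < 64 := by
  have := (K_lt (gc_mem b)).1 ζ h
  rwa [ι_g, cd_el (ok_gc b)] at this

/-- The word with code `n`. -/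
def wd (n : ℕ) : List Bool := (List.range (n % 32)).map fun i => Nat.testBit (n / 32) i
/-- The relator `(t ρ ^ a) ^ k`. -/
def rl (a k : ℕ) : List Bool := (List.replicate k (true :: List.replicate a false)).flatten

theorem mc_rl : mc (rl 0 2) = idm ∧ mc (rl 1 4) = idm ∧ mc (rl 2 4) = idm ∧ mc (rl 4 4) = idm := by decide +kernel
theorem ev_rl : ∀ c < 64, ev c 0 (rl 0 2) = 0 ∧ ev c 0 (rl 1 4) = 0 ∧ ev c 0 (rl 2 4) = 0 ∧ ev c 0 (rl 4 4) = 0 →
    c = 0 ∨ c = 12 := by decide +kernel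
theorem exists_fix : ∀ a < 64, ∃ ζ < 64, ac (gc false) ζ ^^^ a ^^^ ζ = 0 := by decide +kernel

theorem exists_wd {c : ℕ} (hc : c = 0 ∨ c = 12) : ∀ ζ < 64, ∃ w, ev c (rep c (oc c ζ) % 64) w = ζ := by
  have k0 : ∀ ζ < 64, ev 0 (rep 0 (oc 0 ζ) % 64) (wd (getP 22 4194303 (nat_lit 0x2180000600009c0004500012000026000014000a90000980012900022000005000a2c000890004a80052c00001c000250000200000400029c00047000118000a800000c00107000090002280000880002300000400002000528002ab00008c0000200001800027000090000030001200000900049c0008600001c000080028340142e00011c0010a000520000000002240050c000220000440000100284f000424000010001140140e00000000000) ζ)) = ζ := by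
    decide +kernel
  have k1 : ∀ ζ < 64, ev 12 (rep 12 (oc 12 ζ) % 64) (wd (getP 22 4194303 (nat_lit 0x90a4012a8000a140848b00141800083001018080ab0101280082700010800a2702012c0052600251c0120800028c01048000510002050121280808b00089400003000410000020109281012c000a9400426000108020a90100a8020290011180008300201c012880000880282900942401028005020000010040200200900049000486000084004a60084a40002100281c01228040430008470050a000907080834010a80000000024500422000000) ζ)) = ζ := by
    decide +kernel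
  rcases hc with rfl | rfl
  exacts [fun ζ h => ⟨_, k0 ζ h⟩, fun ζ h => ⟨_, k1 ζ h⟩]

theorem rep_oc {c : ℕ} (hc : c = 0 ∨ c = 12) : ∀ ζ < 64, 1024 ≤ rep c (oc c ζ) ∧ rep c (oc c ζ) < 1088 := by
  rcases hc with rfl | rfl <;> decide +kernel

/-! ### Many images of the triple `1, 12, 14` -/

/-- A table of matrices. -/
def tb (i : ℕ) : ℕ := getP 25 33554431 (nat_lit 0x201499900a5c5808ad4c0297b2022a1300a4e5805677c04472e015b4900ad8f8088a5c02b3120149db0111898052f2402973602221300a4c48054f3c04762a01511b00a9cd808eb5402a29e01434f011dc8805047c02863e023a5100a0a7808cd5402a71a01515900a9ec808cb5402a21a0233d100a18680505740286ba02325100a0868082f44041722020b130105a98112a0c089186020b5501058a8082e5c0417ae045a03022c618044c3402271a0113c90089a4820c51410618a01134f0089e78044e2c022616083905041c628104e1c08260e041283020901820251410120a0119df008ccc804656402323e047b87023c23804676c02333a01195d008c8d811ac1c08d08e01519f00a9a5808ae5402a63e022ad500a8e5805066c028796022b1100a1cd80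8a9440283960151dd0111ea8054c2402a6ba0222d500a8c480507640446a201438900a1ec8088944028312015b8f011dab805646402b7b2023a9700aca78052c3c0477a601491d00a5ae808e84c02929e02331700ade6805656c02b73602329700ac86808ce4c02969a01495f00a58f808c84c02921a020b170105ab8082f5404172a0452430228618082e4c0417a6020b510105888110b0c08818601130f0089c78044f2c0226960829850414628044d3402279a011389008984820871410418a0413470209e38104b0c0824860809c50404c2804677402333601195b008c8e811cf1c08e08e0119d9008ccf804657c023232046347023023809c9340266a201329d009968804cc7404e39a027a0d009989804cb7c02652601335f013ce6809ab3c027436013b95009d2a804ef6c04d31e02628f009d2c804ef5c02742e013b990130c78048d5402443a0272c900912a8048c7404e29201231700912f809ea2402442e01235f013ca4804aa6c025722026a4b009568804af6c04d216012ad90095e9809882c025526012b990130858044b6402243a01125900894e811cd1408e18a01129b00892f804486c0225be047b05023c628046c5c023722011b51008deb811691c08b10e011b55008de98046c4c02372a045207022843810291c08140e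040b45020582820670c103206020a4b0105058082b240415120829c30414418082b3c04151e020a4d010506820c40c1061060262cd0099ea804c8640264aa0133990130e6809aa3402672e01325b00990b804cf6c04d39a027a4f009d4f804ec440275a2013b5f013cc7809c83c0275ba013b53009d49804ec7404e31e0123d100914c80989240245a20123990130a48048e4c0245b6026a090091498048f6c04d292012a1f00958a809eb2c0254aa012b5f013c85804a9740256ae02728b00950b804ac7404e21601121f00896d8044a7c0224b6046b8502346280449740225320112dd00890c8118f1408c18a011b93008d8a8046f540236a6044ac70224438046f440236ae011b97008d888110a1c08810e040a870205638102f1408170a081983040ca1808293c04141e020acd010546820e50c107106020acb01054580829240414120821830410418096c340264360133d70099cd804c95c04b39a02534d00992c804ce540267b20132150128e68092f3c027626013a9d009dae804eb4c04931e02438f009da8804eb7c02763e013a910120c7804887c0246ae025b8900918f804895c04b29201225d00918a8094f240246ba0122150128a4804ae4c025532024b4b0095ec804ab4c049216012bd100956d8090c2c025736012a9101208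58044f4402262a0113510089ca811491408a18a0113930089ab8044c4c0227ae045a05022c62804687c023532011a59008d6f811ed1c08f10e011a5d008d6d804686c02353a0473070238438082c2c041696020bc90105c4820a60c105186020b8f0105e78082d3404161a083903041c618102d1c08160e040a45020502820460c102206024b8d00994f804cd4c02663e0132d30124e68090f340265ba0133110099ae804ca4404839a025b4f009dcb804e8640277b2013a57012cc78094c3c0277aa013a5b009dcd804e85404a31e01229b0091e98092c240247360122d30124a48048b640247220243490091ec8048a44048292012b1700950e8096f2c0256ba012a57012c85804ad540254be02538b00958f804a85404a2160113170089e98044e5c0226a6044a850224628044d540227220113d50089888110b1408818a011a9b008d0e8046b740234b6046bc70234438046b640234be011a9f008d0c8118e1c08c10e020b0f0105a78082f3404171a0831430418618082e2c041796020b49010584820870c104186040b870205e38102b1408150a0811c30408a1) i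
/-- The image of the triple. -/
def tr (m : ℕ) : ℕ := Spor.force (mx m) fun m => Nat.add (apm m 1) (Nat.mul 1024 (Nat.add (apm m 12) (Nat.mul 1024 (apm m 14))))

theorem tb_spec : ∀ i < 534, ok (tb i) = true ∧ tb i &&& kK = 0 ∧ (i < 533 → tr (tb i) < tr (tb (i + 1))) := by
  have : allLt 534 (fun i => Spor.force (tb i) fun m => band (ok m) (band (Nat.beq (Nat.land m kK) 0)
    (bor (!blt i 533) (blt (tr m) (tr (tb (Nat.succ i))))))) = true := by decide +kernel
  simp only [allLt_iff, Spor.force_eq, band_iff, bor_iff, nbeq_iff, Bool.not_eq_true', blt_iff] at this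
  exact fun i hi => ⟨(this i hi).1, (this i hi).2.1, fun h => (this i hi).2.2.resolve_left fun e => by
    rw [(blt_iff _ _).2 h] at e; exact absurd e (by decide)⟩

theorem exists_many : ∃ f : ℕ → M, (∀ i < 534, f i ∈ K) ∧ ∀ i < 534, ∀ j < 534,
    (∀ a ∈ [1, 12, 14], f i * e a * (f i)⁻¹ = f j * e a * (f j)⁻¹) → i = j := by
  refine ⟨fun i => ι (el (tb i)), fun i hi => ι_mem_K (tb_spec i hi).1 (tb_spec i hi).2.1, fun i hi j hj h => ?_⟩
  have m : StrictMonoOn (fun i => tr (tb i)) (Set.Iic 533) :=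
    strictMonoOn_Iic_of_lt_succ fun i hi => (tb_spec i (by omega)).2.2 hi
  have t : ∀ a ∈ [1, 12, 14], apm (mx (tb i)) a = apm (mx (tb j)) a := fun a ha => by
    have l : a < 1024 := by revert a; decide
    have := h a ha
    rw [conj_e _ l, conj_e _ l, ι_g, ι_g, cd_el (tb_spec i hi).1, cd_el (tb_spec j hj).1] at this
    exact e_inj (ac_lt _ _) (ac_lt _ _) this
  refine m.injOn (show i ≤ 533 by omega) (show j ≤ 533 by omega) ?_
  simp only [tr, Spor.force_eq, t 1 (by simp), t 12 (by simp), t 14 (by simp)]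

theorem cnt_W : R24.cnt (fun n => decide (n < 1024 ∧ n &&& 800 = 0 ∧ (tc n = 2 ∨ tc n = 3))) = 36 := by decide +kernel

end

end Cfsg.Agent.R20.JN
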