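import Mathlib
import Cfsg.Agent.R20.Bas

/-! Tables for the unitriangular group of degree four, and the kernel checks for `R20/J`. -/

set_option autoImplicit false

namespace Cfsg.Agent.R20.Jk

open Cfsg.Agent.Spor Cfsg.Agent.Inv.Fz Subgroup

/-- The number of `i < N` with `f i`. -/
noncomputable def cn (N : ℕ) (f : ℕ → Bool) : ℕ :=
  Nat.rec (motive := fun _ => ℕ → ℕ) (fun c => c) (fun i r c => Bool.rec (r c) (Spor.force (Nat.succ c) r) (f i)) N 0

theorem cn_eq (N : ℕ) (f : ℕ → Bool) : cn N f = ((Finset.range N).filter fun i => f i = true).card := by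
  have k : ∀ c, Nat.rec (motive := fun _ => ℕ → ℕ) (fun c => c)
      (fun i r c => Bool.rec (r c) (Spor.force (Nat.succ c) r) (f i)) N c =
        ((Finset.range N).filter fun i => f i = true).card + c := by
    induction N with
    | zero => simp
    | succ n ih =>
      intro c
      rw [Finset.range_add_one, Finset.filter_insert]
      cases h : f n
      · simp only [h, ih]; simp
      · simp only [h, if_true]
        rw [Spor.force_eq, ih, Finset.card_insert_of_notMem (by simp)]; omega
  exact k 0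

theorem cn_mono {N : ℕ} {f g : ℕ → Bool} (h : ∀ i < N, f i = true → g i = true) : cn N f ≤ cn N g := by
  rw [cn_eq, cn_eq]
  exact Finset.card_le_card fun i hi => by
    rw [Finset.mem_filter] at hi ⊢
    exact ⟨hi.1, h i (Finset.mem_range.1 hi.1) hi.2⟩

theorem cn_two {N n : ℕ} {f : ℕ → Bool} (h : ∀ i < N, f i = true → i = 0 ∨ i = n) : cn N f ≤ 2 := by
  rw [cn_eq]
  refine (Finset.card_le_card (t := {0, n}) fun i hi => ?_).trans Finset.card_le_two
  rw [Finset.mem_filter, Finset.mem_range] at hi
  simpa using h i hi.1 hi.2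

theorem relIndex_le {G : Type*} [Group G] {H K : Subgroup G} (N : ℕ) (f : ℕ → Bool) (r : G → ℕ → Prop)
    (h1 : ∀ b ∈ K, ∃ n < N, f n = true ∧ r b n) (h2 : ∀ b ∈ K, ∀ b' ∈ K, ∀ n, r b n → r b' n → b * b'⁻¹ ∈ H) :
    H.relIndex K ≤ cn N f := by
  choose! g g1 g2 g3 using h1
  rw [cn_eq, ← Nat.card_eq_finsetCard]
  refine Nat.card_le_card_of_injective (α := K ⧸ H.subgroupOf K) (fun q => ⟨g (q.out.1)⁻¹, Finset.mem_filter.2
    ⟨Finset.mem_range.2 (g1 _ (inv_mem q.out.2)), g2 _ (inv_mem q.out.2)⟩⟩) fun q q' e => ?_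
  have e' : g (q.out.1)⁻¹ = g (q'.out.1)⁻¹ := congrArg Subtype.val e
  have := h2 _ (inv_mem q.out.2) _ (inv_mem q'.out.2) _ (g3 _ (inv_mem q.out.2)) (e' ▸ g3 _ (inv_mem q'.out.2))
  rw [inv_inv] at this
  rw [← q.out_eq, ← q'.out_eq]
  exact QuotientGroup.eq.2 this

theorem card_le {G : Type*} [Group G] {K : Subgroup G} (N : ℕ) (f : ℕ → Bool) (r : G → ℕ → Prop)
    (h1 : ∀ b ∈ K, ∃ n < N, f n = true ∧ r b n) (h2 : ∀ b ∈ K, ∀ b' ∈ K, ∀ n, r b n → r b' n → b = b') :
    Nat.card K ≤ cn N f := by
  rw [← relIndex_bot_left]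
  exact relIndex_le N f r h1 fun b hb b' hb' n e e' => mem_bot.2 (mul_inv_eq_one.2 (h2 b hb b' hb' n e e'))

/-- Bit `i` of `T`. -/
def bit (T i : ℕ) : Bool := Nat.beq (Nat.land (Nat.shiftRight T i) 1) 1
/-- Commuting elements of order at most two. -/
def cT (n k : ℕ) : Bool := bit (nat_lit 0x909020204040909000000000000000000000000000000000909010101010909000000000000000000000000000000000000000000000000000000000000000009090202040409090000000000000000000000000000000009090101010109090000000000000000000000000000000000000000000000000000000000000000000000000000000000000000000000000808030304040303010103030101030300000000000000000000000000000000000000000000000000000000000000000000000000000000000000000000000008080303040403030101030301010303000000000000000000000000555555550000000000000000000000005555555500000000000000000808020255555555000000000000000001010101555555550000000000000000000000005555555500000000000000000000000055555555000000000000000008080202555555550000000000000000010101015555555500000000000000000000000055555555000000000000000000000000555555550909000000000f0f0000000055555f5f0000030300000f0f0909030355555f5f00000000000000000000000055555555000000000000000000000000555555550909000000000f0f0000000055555f5f0000030300000f0f0909030355555f5f)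 (Nat.add (Nat.mul 64 n) k)
/-- Fixed bivectors. -/
def fZ (n a : ℕ) : Bool := bit (nat_lit 0xc00300000000000000c3000000000000300300000000000000330ff000000000f00f000000000000000f000000000000000fff000000000000ff000000000000c00300000000000000c300000000000030030000000000000033f00f00000000f00f000000000000000f000000000000000f00ff0000000000ff000000000000300300000000000000c3000000000000c0030000000000000033000000000000000f000000000000000f00000ff00000f00f0000ff00000000ff000000000000300300000000000000c3000000000000c0030000000000000033000000000000000f000000000000000f0000f00f0000f00f000000ff000000ff0000000000000c0300000000c33c3cc30000000000000c030000000033cccc33000000000000000f000000000ff0f00f000000000000000f00000000ff0000ff0000000000000c03000000003cc33cc30000000000000c0300000000cc33cc33000000000000000f00000000f00ff00f000000000000000f0000000000ff00ff0000000000000303000000003c3cc3c3000000000000030300000000cccc3333f0f0000000000f0f00000000f0f00f0f0000f0f000000f0f000000000000ffff000000000000030300000000c3c3c3c3000000000000030300000000333333330f0f000000000f0f000000000f0f0f0f00000f0f00000f0fffffffffffffffff)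 (Nat.add (Nat.mul 64 n) a)
/-- Fixed vectors. -/
def fU (n u : ℕ) : Bool := bit (nat_lit 0x3000f0003000f00c3000f003300ff0003000f0003000f00c3000f003300ff0003000f0003000f00c3000f003300ff0003000f0003000f00c3000f003300ff3003f00fc003000f00c3000f003300ffc003000f3003f00f00c3000f003300ff0c03000f0c03000f3cc3f00fcc3300ff03030f0f03030f0fc3c30f0f3333ffff) (Nat.add (Nat.mul 16 n) u)
/-- The transvections in the unitriangular group, with conjugating matrices. -/
def tvL : List (ℕ × ℕ) := [(17043553, 19141121), (17044545, 21250113), (17044577, 19143169), (17045569, 21250146), (17046593, 21250115), (17076289,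
  25694273), (17076321, 19206657), (17077313, 21381185), (17077345, 19208705), (17109057, 25694306), (17111105, 21381218),
  (17141825, 25694275), (17144897, 21381187), (17174593, 25695300), (17207361, 25694277), (17240129, 25694438), (17272897,
  25694279), (18092097, 17043521), (18092129, 17044033), (18093121, 17059905), (18093153, 17046081), (18124865, 17567809),
  (18124897, 17109569), (18125889, 17190977), (18125921, 17111617), (19140673, 17043554), (19142721, 17059938), (19206209,
  17567842), (19208257, 17191010), (20189249, 17043523), (20192321, 17059907), (20287553, 17567811), (20290625, 17190979),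
  (21237825, 17044548), (21368897, 17568836), (22286401, 17043525), (22450241, 17567813), (23334977, 17043686), (23531585,
  17567974), (24383553, 17043527), (24612929, 17567815), (25432129, 17076296), (26480705, 17043529), (27529281, 17043818),
  (28577857, 17043531), (29626433, 17052748), (30675009, 17043533), (31723585, 17043950), (32772161, 17043535)]
/-- The test for transvections. -/
noncomputable def tv (m : ℕ) : Bool := !allL tvL fun p => !Nat.beq p.1 m
/-- The product of a transvection `t_l` and a matrix of degree four. -/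
noncomputable def bb (l n : ℕ) : ℕ := mm (idm + 1048576 * l) (ut n)
/-- The test for `Ai i`. -/
def inA (i : Fin 3) (w u : ℕ) : Prop := ![u = 0, w = 0, w = u] i

theorem cT_of : ∀ n < 64, (∀ u < 16, ap (ut n) (ap (ut n) u) = u) → ∀ k < 64, (∀ u < 16, ap (ut k) (ap (ut k) u) = u) →
    (∀ u < 16, ap (ut n) (ap (ut k) (ap (ut n) (ap (ut k) u))) = u) → cT n k = true := by
  have : allLt 64 (fun n => Spor.force (ut n) fun a => !(allLt 16 fun u => Nat.beq (ap a (ap a u)) u) || allLt 64 fun k =>
      Spor.force (ut k) fun b => !(allLt 16 fun u => Nat.beq (ap b (ap b u)) u) ||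
        (!(allLt 16 fun u => Nat.beq (ap a (ap b (ap a (ap b u)))) u) || cT n k)) = true := by decide +kernel
  simpa only [allLt_iff, Spor.force_eq, Bool.or_eq_true, Bool.not_eq_true', ← Bool.not_eq_true, ← imp_iff_not_or,
    nbeq_iff] using this

theorem fZ_of : ∀ n < 64, ∀ a < 64, ac (ut n) a = a → fZ n a = true := by
  have : allLt 64 (fun n => Spor.force (mx (ut n)) fun M => allLt 64 fun a => !Nat.beq (apm M a) a || fZ n a) = true := by
    decide +kernel
  simpa only [allLt_iff, Spor.force_eq, Bool.or_eq_true, Bool.not_eq_true', ← Bool.not_eq_true, ← imp_iff_not_or,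
    nbeq_iff, ac] using this

theorem fU_of : ∀ n < 64, ∀ u < 16, ap (ut n) u = u → fU n u = true := by
  have : allLt 64 (fun n => allLt 16 fun u => !Nat.beq (ap (ut n) u) u || fU n u) = true := by decide +kernel
  simpa only [allLt_iff, Bool.or_eq_true, Bool.not_eq_true', ← Bool.not_eq_true, ← imp_iff_not_or, nbeq_iff] using this

theorem k1 : ∀ n < 64, n ≠ 0 → cT n n = true → cn 64 (fZ n) ≤ 16 ∧ cn 16 (fU n) ≤ 8 := by
  have : allLt 64 (fun n => Nat.beq n 0 || (!cT n n || (Nat.ble (cn 64 (fZ n)) 16 && Nat.ble (cn 16 (fU n)) 8))) = true := by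
    decide +kernel
  simpa only [allLt_iff, Bool.or_eq_true, Bool.not_eq_true', ← Bool.not_eq_true, or_iff_not_imp_left, not_not, nbeq_iff,
    Bool.and_eq_true, Nat.ble_eq] using this

theorem k2 : ∀ n < 64, ∀ k < 64, n ≠ 0 → k ≠ 0 → k ≠ n → cT n k = true → cn 64 (fun a => fZ n a && fZ k a) ≤ 8 := by
  have : allLt 64 (fun n => allLt 64 fun k => Nat.beq n 0 || (Nat.beq k 0 || (Nat.beq k n || (!cT n k ||
      Nat.ble (cn 64 fun a => fZ n a && fZ k a) 8)))) = true := by decide +kernel
  simpa only [allLt_iff, Bool.or_eq_true, Bool.not_eq_true', ← Bool.not_eq_true, or_iff_not_imp_left, not_not, nbeq_iff,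
    Nat.ble_eq] using this

theorem k3 : ∀ n < 64, n &&& 33 ≠ 0 → cn 64 (fun k => cT n k && blt 8 (cn 64 fun m => cT n m && cT k m)) ≤ 8 := by
  have : allLt 64 (fun n => Nat.beq (n &&& 33) 0 ||
      Nat.ble (cn 64 fun k => cT n k && blt 8 (cn 64 fun m => cT n m && cT k m)) 8) = true := by decide +kernel
  simpa only [allLt_iff, Bool.or_eq_true, or_iff_not_imp_left, nbeq_iff, Nat.ble_eq] using this

theorem k4 : (∀ a < 64, 2 ≤ a → cn 64 (fun n => Nat.beq (n &&& 33) 0 && fZ n a) ≤ 8) ∧
    (∀ u < 16, 4 ≤ u → cn 64 (fun n => Nat.beq (n &&& 33) 0 && fU n u) ≤ 8) ∧ cn 64 (fun n => Nat.beq (n &&& 33) 0) ≤ 16 ∧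
    (∀ k < 64, k &&& 33 = 0 → cn 64 (fun n => Nat.beq (n &&& 33) 0 && !Nat.beq n k) ≤ 15) ∧
    cn 64 (fun a => blt a 2) ≤ 2 ∧ cn 16 (fun a => blt a 4) ≤ 4 := by decide +kernel

section comb

variable {S DZ DU : ℕ → Bool} (hS : ∀ n < 64, S n = true → ∀ k < 64, S k = true → cT n k = true)
include hS

theorem le_F (h : 8 < cn 64 S) : ∀ n < 64, S n = true → n &&& 33 = 0 := fun n hn e => by
  by_contra c
  refine absurd ((cn_mono fun k hk e' => ?_).trans (k3 n hn c)) (not_le.2 h)
  rw [Bool.and_eq_true, blt_iff]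
  exact ⟨hS n hn e k hk e', h.trans_le (cn_mono fun m hm e'' => by rw [hS n hn e m hm e'', hS k hk e' m hm e'']; rfl)⟩

theorem mem_F (h : 16 ≤ cn 64 S) {k : ℕ} (hk : k < 64) (e : k &&& 33 = 0) : S k = true := by
  by_contra c
  refine absurd ((cn_mono fun n hn e' => ?_).trans (k4.2.2.2.1 k hk e)) (not_le.2 h)
  rw [le_F hS (by omega) n hn e', Bool.and_eq_true, Bool.not_eq_true', ← Bool.not_eq_true, nbeq_iff, nbeq_iff]
  exact ⟨rfl, fun e'' => c (e'' ▸ e')⟩

variable (hZ : ∀ a < 64, DZ a = true → ∀ n < 64, S n = true → fZ n a = true)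
  (hU : ∀ u < 16, DU u = true → ∀ n < 64, S n = true → fU n u = true)
include hZ hU

theorem big (h : 8 < cn 64 S) : cn 64 S ≤ 16 ∧ cn 64 DZ ≤ 2 ∧ cn 16 DU ≤ 4 := by
  have F := le_F hS h
  refine ⟨(cn_mono fun n hn e => by rw [F n hn e]; rfl).trans k4.2.2.1, (cn_mono fun a ha e => ?_).trans k4.2.2.2.2.1,
    (cn_mono fun a ha e => ?_).trans k4.2.2.2.2.2⟩ <;> rw [blt_iff] <;> by_contra c
  · exact absurd ((cn_mono fun n hn e' => by rw [F n hn e', hZ a ha e n hn e']; rfl).trans (k4.1 a ha (not_lt.1 c)))
      (not_le.2 h)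
  · exact absurd ((cn_mono fun n hn e' => by rw [F n hn e', hU a ha e n hn e']; rfl).trans (k4.2.1 a ha (not_lt.1 c)))
      (not_le.2 h)

theorem comb {n : ℕ} (hn : n < 64) (n0 : n ≠ 0) (e : S n = true) : cn 64 S * cn 64 DZ ≤ 64 ∧ cn 16 DU ≤ 8 := by
  obtain ⟨a1, a2⟩ := k1 n hn n0 (hS n hn e n hn e)
  refine ⟨?_, (cn_mono fun a ha e' => hU a ha e' n hn e).trans a2⟩
  by_cases c : ∀ k < 64, S k = true → k = 0 ∨ k = n
  · exact (Nat.mul_le_mul (cn_two c) ((cn_mono fun a ha e' => hZ a ha e' n hn e).trans a1)).trans (by norm_num)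
  push Not at c
  obtain ⟨k, hk, e', k0, kn⟩ := c
  by_cases c : 8 < cn 64 S
  · obtain ⟨b1, b2, -⟩ := big hS hZ hU c
    exact (Nat.mul_le_mul b1 b2).trans (by norm_num)
  · exact Nat.mul_le_mul (not_lt.1 c) ((cn_mono fun a ha e'' => by
      rw [hZ a ha e'' n hn e, hZ a ha e'' k hk e']; rfl).trans (k2 n hn k hk n0 k0 kn (hS n hn e k hk e')))

end comb

theorem ut_eq : ∀ n < 1024, ut n = bb (n / 64) (n % 64) := by
  have : allLt 1024 (fun n => Nat.beq (ut n) (bb (n / 64) (n % 64))) = true := by decide +kernel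
  simpa only [allLt_iff, nbeq_iff] using this

theorem tv_conj {g : L5} (h : tv (cd g) = true) : IsConj (E 0 4) g := by
  have : allL tvL (fun p => ok p.2 && Nat.beq (mm p.2 (idm + 2 ^ (5 * 4 + 0))) (mm p.1 p.2)) = true := by decide +kernel
  simp only [allL_iff, Bool.and_eq_true, nbeq_iff] at this
  simp only [tv, Bool.not_eq_true', ← Bool.not_eq_true, allL_iff, nbeq_iff, not_forall, not_not] at h
  obtain ⟨p, hp, e⟩ := h
  refine isConj_iff.2 ⟨el p.2, mul_inv_eq_iff_eq_mul.2 (cd_inj ?_)⟩
  rw [cd_mul, cd_mul, cd_el (this p hp).1, cd_E (by norm_num) (by norm_num) (by norm_num), ← e, (this p hp).2]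

theorem tv_tu : ∀ u < 16, u ≠ 0 → tv (idm + 1048576 * u) = true := by decide +kernel

theorem tv_three : ∀ a < 16, mm (bb a 2) (bb a 2) = idm → ∀ b < 16, mm (bb b 8) (bb b 8) = idm →
    mm (mm (bb a 2) (bb b 8)) (mm (bb a 2) (bb b 8)) = idm → ∀ c < 16, mm (bb c 16) (bb c 16) = idm →
    mm (mm (bb a 2) (bb c 16)) (mm (bb a 2) (bb c 16)) = idm →
    tv (bb a 2) = true ∨ tv (bb b 8) = true ∨ tv (mm (bb a 2) (bb b 8)) = true := by
  have : allLt 16 (fun a => Spor.force (bb a 2) fun x => !Nat.beq (mm x x) idm || allLt 16 fun b =>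
      Spor.force (bb b 8) fun y => !Nat.beq (mm y y) idm || (!Nat.beq (mm (mm x y) (mm x y)) idm || allLt 16 fun c =>
        Spor.force (bb c 16) fun w => !Nat.beq (mm w w) idm || (!Nat.beq (mm (mm x w) (mm x w)) idm ||
          (tv x || (tv y || tv (mm x y)))))) = true := by decide +kernel
  simpa only [allLt_iff, Spor.force_eq, Bool.or_eq_true, Bool.not_eq_true', ← Bool.not_eq_true, ← imp_iff_not_or,
    nbeq_iff] using this

theorem tv_or : ∀ n < 1024, mm (ut n) (ut n) = idm → ut n = idm ∨ tv (ut n) = true ∨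
    cn 1024 (fun a => Nat.beq (ac (ut n) a) a) ≤ 64 := by
  have : allLt 32 (fun i => allLt 32 fun j => Spor.force (ut (32 * i + j)) fun x => !Nat.beq (mm x x) idm ||
      (Nat.beq x idm || (tv x || Spor.force (mx x) fun M => Nat.ble (cn 1024 fun a => Nat.beq (apm M a) a) 64))) = true := by
    decide +kernel
  simp only [allLt_iff, Spor.force_eq, Bool.or_eq_true, Bool.not_eq_true', ← Bool.not_eq_true, nbeq_iff, Nat.ble_eq] at this
  intro n hn h
  have := this (n / 32) (by omega) (n % 32) (by omega)
  rw [Nat.div_add_mod] at this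
  exact this.resolve_left (not_not.2 h)

theorem fix_T : ∀ a < 1024, (∀ i < 4, ac (idm + 2 ^ (5 * (i + 1) + i)) a = a) → a = 0 ∨ a = 1 := by
  have : allLt 1024 (fun a => !(allLt 4 fun i => Nat.beq (ac (idm + 2 ^ (5 * (i + 1) + i)) a) a) ||
      (Nat.beq a 0 || Nat.beq a 1)) = true := by decide +kernel
  simpa only [allLt_iff, Bool.or_eq_true, Bool.not_eq_true', ← Bool.not_eq_true, ← imp_iff_not_or, nbeq_iff] using this

theorem fix_Z : ∀ a < 32, ∀ b < 32, wg a b = 1 → ∀ c < 32, wg a c = 2 → wg b c = 4 → ∀ d < 32, wg a d = 8 → wg b d = 16 →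
    ∀ e < 32, pk a b c d e &&& kE = 0 := by
  have : allLt 32 (fun a => allLt 32 fun b => !Nat.beq (wg a b) 1 || allLt 32 fun c => !Nat.beq (wg a c) 2 ||
      (!Nat.beq (wg b c) 4 || allLt 32 fun d => !Nat.beq (wg a d) 8 || (!Nat.beq (wg b d) 16 || allLt 32 fun e =>
        Nat.beq (pk a b c d e &&& kE) 0))) = true := by decide +kernel
  simpa only [allLt_iff, Bool.or_eq_true, Bool.not_eq_true', ← Bool.not_eq_true, ← imp_iff_not_or, nbeq_iff] using this

instance (i : Fin 3) (w u : ℕ) : Decidable (inA i w u) :=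
  match i with
  | 0 => inferInstanceAs (Decidable (u = 0))
  | 1 => inferInstanceAs (Decidable (w = 0))
  | 2 => inferInstanceAs (Decidable (w = u))

theorem inA_of_sq : ∀ w < 16, ∀ u < 16, wg w u = 0 → ∃ i, inA i w u := by decide +kernel

theorem inA_of_comm : ∀ i, ∀ w < 16, ∀ u < 16, (∀ v < 16, wg (wu i v).1 u = wg w (wu i v).2) → inA i w u := by
  decide +kernel

set_option synthInstance.maxSize 100000 in
theorem four : ∀ i, ∀ w < 16, ∀ u < 16, inA i w u → u ≠ 0 → ∀ w' < 16, ∀ u' < 16, ¬ inA i w' u' → wg w' u' = 0 →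
    wg (w ^^^ w') (u ^^^ u') = 0 → cn 256 (fun n => Nat.beq (wg (n / 16) (n % 16)) 0 &&
      (Nat.beq (wg (w ^^^ n / 16) (u ^^^ n % 16)) 0 && Nat.beq (wg (w' ^^^ n / 16) (u' ^^^ n % 16)) 0)) ≤ 4 := by
  decide +kernel

end Cfsg.Agent.R20.Jk
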