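import Mathlib
import Cfsg.Agent.R20.Qm

/-!
The action of `T0 / Q` (64 elements) on `Q / ⟨z⟩`, which is a sum of two copies of a module of order 64.
-/

set_option autoImplicit false

namespace Cfsg.Agent.R20

open Cfsg.Agent.Spor Cfsg.Agent.Inv.Fz Subgroup

/-- `H` contains `[Q, f]` and the centraliser of `B` in `Q / ⟨z⟩`. -/
def Cov (B H : Subgroup M) (f : M) : Prop := f ∈ B ∧ f ∉ Q ∧ H ≤ Q ∧ (∀ q ∈ Q, q * f * q⁻¹ * f⁻¹ ∈ H) ∧
  ∀ q ∈ Q, (∀ b ∈ B, Eqv z (b * q * b⁻¹) q) → q ∈ H

namespace SQk

noncomputable section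

/-- Codes of coset representatives of `Q` in `T0`. -/
def dc (n : ℕ) : ℕ := pr (32 * bt n 0 + 256 * bt n 1 + 512 * bt n 2)
  (idm + 131072 * bt n 3 + 4194304 * bt n 4 + 8388608 * bt n 5)
/-- The number of the coset of a code. -/
def ix (c : ℕ) : ℕ := bt c 5 + 2 * bt c 8 + 4 * bt c 9 + 8 * bt c 27 + 16 * bt c 32 + 32 * bt c 33
/-- The multiplication table. -/
def nm (n m : ℕ) : ℕ := getP 6 63 (nat_lit 0x4d24115545976da61975c79f0c20011441872ca20934c38f8e28219649a7aeaa29b6cbafcf2c31d74db7efae39f7cfbf4934505155d669b65871d7de0830401051c628b24830d3ce8a38609259e6aaba68b2dbeecb3c70d35df6ebbe78f3dffe4504935d651565869b7de71d0400831c610524828b3ce30d8608a39e6925a68aabbeeb2dc70cb3df6d35e78ebbffef3d4114d25975546196da79f75c0010c21871442092ca38f34c8218e29a7964a29aeabafb6cc31cf2db7d74e39efafbff7c5d65154504937de71d65869b1c61050400833ce30d24828b9e69258608a3beeb2da68aabdf6d35c70cb3ffef3de78ebb5975544114d279f75c6196da1871440010c238f34c2092ca9a79648218e2bafb6ca29aeadb7d74c31cf2fbff7ce39efa5545974d241175c79f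6da6191441870c200134c38f2ca2099649a78e2821b6cbafaeaa29d74db7cf2c31f7cfbfefae395155d649345071d7de69b6581051c608304030d3ce28b2489259e68a3860b2dbeeaaba68d35df6cb3c70f3dffeebbe782092ca34c38f0010c21441876196da75c79f4114d2554597a29aeab6cbaf8218e29649a7e39efaf7cfbfc31cf2d74db724828b30d3ce0400831051c665869b71d7de4504935155d6a68aabb2dbee8608a39259e6e78ebbf3dffec70cb3d35df628b2483ce30d0830401c610569b6587de71d4934505d6515aaba68beeb2d8a38609e6925ebbe78ffef3dcb3c70df6d352ca20938f34c0c20011871446da61979f75c4d2411597554aeaa29bafb6c8e28219a7964efae39fbff7ccf2c31db7d7430d3ce24828b1051c604008371d7de65869b5155d6450493b2dbeea68aab9259e68608a3f3dffee78ebbd35df6c70cb334c38f2092ca1441870010c275c79f6196da5545974114d2b6cbafa29aea9649a78218e2f7cfbfe39efad74db7c31cf238f34c2ca2091871440c200179f75c6da6195975544d2411bafb6caeaa299a79648e2821fbff7cefae39db7d74cf2c313ce30d28b2481c61050830407de71d69b6585d6515493450beeb2daaba689e69258a3860ffef3debbe78df6d35cb3c7008304014418728b24834c38f49345055459769b65875c79fcb3c70d74db7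ebbe78f7cfbf8a38609649a7aaba68b6cbaf0c20011051c62ca20930d3ce4d24115155d66da61971d7decf2c31d35df6efae39f3dffe8e28219259e6aeaa29b2dbee0010c21c61052092ca3ce30d4114d25d65156196da7de71dc31cf2df6d35e39efaffef3d8218e29e6925a29aeabeeb2d04008318714424828b38f34c45049359755465869b79f75cc70cb3db7d74e78ebbfbff7c8608a39a7964a68aabbafb6c18714404008338f34c24828b59755445049379f75c65869bdb7d74c70cb3fbff7ce78ebb9a79648608a3bafb6ca68aab1c61050010c23ce30d2092ca5d65154114d27de71d6196dadf6d35c31cf2ffef3de39efa9e69258218e2beeb2da29aea1051c60c200130d3ce2ca2095155d64d241171d7de6da619d35df6cf2c31f3dffeefae399259e68e2821b2dbeeaeaa2914418708304034c38f28b24855459749345075c79f69b658d74db7cb3c70f7cfbfebbe789649a78a3860b6cbafaaba6865869b75c79f45049355459724828b34c38f040083144187e78ebbf7cfbfc70cb3d74db7a68aabb6cbaf8608a39649a76196da71d7de4114d25155d62092ca30d3ce0010c21051c6e39efaf3dffec31cf2d35df6a29aeab2dbee8218e29259e66da6197de71d4d24115d65152ca2093ce30d0c20011c6105efae39ffef3dcf2c31df6d35aeaa29beeb2d8e28219e692569b658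79f75c49345059755428b24838f34c083040187144ebbe78fbff7ccb3c70db7d74aaba68bafb6c8a38609a796475c79f65869b55459745049334c38f24828b144187040083f7cfbfe78ebbd74db7c70cb3b6cbafa68aab9649a78608a371d7de6196da5155d64114d230d3ce2092ca1051c60010c2f3dffee39efad35df6c31cf2b2dbeea29aea9259e68218e27de71d6da6195d65154d24113ce30d2ca2091c61050c2001ffef3defae39df6d35cf2c31beeb2daeaa299e69258e282179f75c69b65859755449345038f34c28b248187144083040fbff7cebbe78db7d74cb3c70bafb6caaba689a79648a3860cf2c70d35db7efae78f3dfbf8e28609259a7aeaa68b2dbaf0c20401051872ca24830d38f4d24505155976da65871d79fcb3c31d74df6ebbe39f7cffe8a38219649e6aaba29b6cbee0830011441c628b20934c3ce4934115545d669b61975c7dec70cf2db7d35e78efafbff3d8608e29a7925a68aeabafb2d0400c21871052482ca38f30d4504d25975156586da79f71dc31cb3df6d74e39ebbffef7c8218a39e6964a29aabbeeb6c0010831c614420928b3ce34c4114935d655461969b7de75cdf6d74c31cb3ffef7ce39ebb9e69648218a3beeb6ca29aab1c61440010833ce34c20928b5d65544114937de75c61969bdb7d35c70cf2fbff3de78efa9a79258608e2bafb2da68aea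1871050400c238f30d2482ca5975154504d279f71d6586dad74df6cb3c31f7cffeebbe399649e68a3821b6cbeeaaba291441c608300134c3ce28b2095545d649341175c7de69b619d35db7cf2c70f3dfbfefae789259a78e2860b2dbafaeaa681051870c204030d38f2ca2485155974d245071d79f6da658a68aeab2dbaf8608e29259a7e78efaf3dfbfc70cf2d35db72482ca30d38f0400c21051876586da71d79f4504d2515597a29aabb6cbee8218a39649e6e39ebbf7cffec31cb3d74df620928b34c3ce0010831441c661969b75c7de4114935545d6aeaa68bafb2d8e28609a7925efae78fbff3dcf2c70db7d352ca24838f30d0c20401871056da65879f71d4d2450597515aaba29beeb6c8a38219e6964ebbe39ffef7ccb3c31df6d7428b2093ce34c0830011c614469b6197de75c4934115d6554b6cbeea29aab9649e68218a3f7cffee39ebbd74df6c31cb334c3ce20928b1441c600108375c7de61969b5545d6411493b2dbafa68aea9259a78608e2f3dfbfe78efad35db7c70cf230d38f2482ca1051870400c271d79f6586da5155974504d2beeb6caaba299e69648a3821ffef7cebbe39df6d74cb3c313ce34c28b2091c61440830017de75c69b6195d6554493411bafb2daeaa689a79258e2860fbff3defae78db7d35cf2c7038f30d2ca2481871050c204079f71d6da658597515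4d24508a38219259a7aaba29b2dbafcb3c31d35db7ebbe39f3dfbf49341151559769b61971d79f08300110518728b20930d38f8e28609649e6aeaa68b6cbeecf2c70d74df6efae78f7cffe4d24505545d66da65875c7de0c20401441c62ca24834c3ce8218a39a7925a29aabbafb2dc31cb3db7d35e39ebbfbff3d41149359751561969b79f71d00108318710520928b38f30d8608e29e6964a68aeabeeb6cc70cf2df6d74e78efaffef7c4504d25d65546586da7de75c0400c21c61442482ca3ce34c9a79258218a3bafb2da29aabdb7d35c31cb3fbff3de39ebb59751541149379f71d61969b18710500108338f30d20928b9e69648608e2beeb6ca68aeadf6d74c70cf2ffef7ce78efa5d65544504d27de75c6586da1c61440400c23ce34c2482ca9259a78a3821b2dbafaaba29d35db7cb3c31f3dfbfebbe3951559749341171d79f69b61910518708300130d38f28b2099649e68e2860b6cbeeaeaa68d74df6cf2c70f7cffeefae785545d64d245075c7de6da6581441c60c204034c3ce2ca248e39ebbf3dfbfc31cb3d35db7a29aabb2dbaf8218a39259a761969b71d79f41149351559720928b30d38f001083105187e78efaf7cffec70cf2d74df6a68aeab6cbee8608e29649e66586da75c7de4504d25545d62482ca34c3ce0400c21441c6ebbe39fbff3dcb3c31db7d35aaba29bafb2d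8a38219a792569b61979f71d49341159751528b20938f30d083001187105efae78ffef7ccf2c70df6d74aeaa68beeb6c8e28609e69646da6587de75c4d24505d65542ca2483ce34c0c20401c6144f3dfbfe39ebbd35db7c31cb3b2dbafa29aab9259a78218a371d79f61969b51559741149330d38f20928b105187001083f7cffee78efad74df6c70cf2b6cbeea68aea9649e68608e275c7de6586da5545d64504d234c3ce2482ca1441c60400c2fbff3debbe39db7d35cb3c31bafb2daaba299a79258a382179f71d69b61959751549341138f30d28b209187105083001ffef7cefae78df6d74cf2c70beeb6caeaa689e69648e28607de75c6da6585d65544d24503ce34c2ca2481c61440c2040) (Nat.add (Nat.mul 64 n) m)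
/-- The action on the module. -/
def act (n x : ℕ) : ℕ := apm (getP 100 (nat_lit 0xfffffffffffffffffffffffff) (nat_lit 0x8c3606c0700c01000000000008c370600700c0100000000000883707c0700c010000000000088360700700c0100000000000843007c0700c010000000000084310700700c0100000000000803106c0700c010000000000080300600700c01000000000008c360b40700801000000000008c370bc07008010000000000088370a007008010000000000088360a807008010000000000084300bc07008010000000000084310b407008010000000000080310a807008010000000000080300a00700801000000000008c360e00600c01000000000008c370ec0600c010000000000088370f40600c010000000000088360f80600c010000000000084300f80600c010000000000084310f40600c010000000000080310ec0600c010000000000080300e00600c01000000000008c360380600801000000000008c370300600801000000000008837028060080100000000000883602006008010000000000084300380600801000000000008431030060080100000000000803102806008010000000000080300200600801000000000008c150e00500c01000000000008c140ec0500c010000000000088150f40500c010000000000088140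f80500c010000000000084110f80500c010000000000084100f40500c010000000000080110ec0500c010000000000080100e00500c01000000000008c150b40500801000000000008c140bc05008010000000000088150a005008010000000000088140a805008010000000000084110bc05008010000000000084100b405008010000000000080110a805008010000000000080100a00500801000000000008c1506c0400c01000000000008c140600400c0100000000000881507c0400c010000000000088140700400c0100000000000841107c0400c010000000000084100700400c0100000000000801106c0400c010000000000080100600400c01000000000008c150380400801000000000008c140300400801000000000008815028040080100000000000881402004008010000000000084110380400801000000000008410030040080100000000000801102804008010000000000080100200400801) n) x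
/-- The fixed points. -/
def fx (n : ℕ) : ℕ := getP 64 (nat_lit 0xffffffffffffffff) (nat_lit 0x30000000030000003000000003000000c000000003000000c0000000030000000c000000030000000c00000003000000030000000300000003000000030f0000f0f000000ff00000f00f00000f000000000000000f000000000000000f000000000000000f000000000000000ff000000ff000000f0f00000f0f00000f000000c000000003000000c000000003000000300000000300000030000000030000000c000000030000000c0000000300000003000000030000000300000003000000000000000f000000000000000f00000ff00000f00f0000f0f000000f0f000000000000000f000000000000000f0000f00f0000f00f00000f0f00000f0f00000000000000c300000000000000c300000000000000c300000000000000c300c3003c003c00c3003c003c00c300c3003c00c3003c00c300c300c300c300c3000000000000000f000000000000000f000000000000000f000000000000000f000f00f000f0000f00f000f0000f000f00f0000f00f0000f000f000f000f000f0000000000000033000000000000003300000000000000330000000000000033003300cc00cc003300cc00cc0033003300cc003300cc00330033003300330033ff000000000000ff00000000ff0000ff0000ff00000000ff000000000000ffff00ff0000000000ff0000000000ff00ff000000ff000000ffffffffffffffffff)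 n
/-- The commutators. -/
def cm (n : ℕ) : ℕ := getP 64 (nat_lit 0xffffffffffffffff) (nat_lit 0xf000f0000f000f00f000f0000f000f000f00f000f0000f000f00f000f0000f00f0000f00f0000f00f0000f00f0000f000f000f000f000f000f000f000f000f00000060000000090000009000000009000000ff000000ff000000ff000000ff000000ff000000ff000000ff000000ff00000006000000090000000900000009000f00f000f0000f000f00f000f0000f00f000f0000f000f00f000f0000f000f00f0000f00f0000f00f0000f00f0000f000f000f000f000f000f000f000f000f000000ff000000ff000000ff000000ff000000a0000000050000005000000005000000ff000000ff000000ff000000ff0000000a00000005000000050000000500ff0000000000ff00ff0000000000ff00ff0000000000ff00ff0000000000ff00c00000000000030030000000000003000c0000000000030003000000000003000000ff000000ff000000ff000000ff000000ff000000ff000000ff000000ff000000c00000000300000030000000030000000c0000000300000003000000030000000000ff00ff0000000000ff00ff0000000000ff00ff0000000000ff00ff0000000000c00003000000000030000300000000000c000300000000000300030000000000000069000000000000009900000000000000a5000000000000005500000000000000c30000000000000033000000000000000f0000000000000001)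 n
/-- The bad partners. -/
def bp (n : ℕ) : ℕ := getP 64 (nat_lit 0xffffffffffffffff) (nat_lit 0x830000000000c100430000000000c1000000000000000000000000000000000000000000000000000000000000000000c20000000000c100c10000000000c100000000000000000000000000000000000000000000000000000000000000000000000000000000000000000000000000000000000000000000000000000000000000000000000000000000000000000000002300000031000000130000003100000000000000000000000000000000000000320000003100000031000000310000000000000000000000000000000000000000000000000000000000000000000000000e090907000000000d090607000000000b06090700000000070606070000000000000000000000000000000000000000000000000000000000000000000000000c0b030d0000000003070c0d00000000030e030d000000000c0d0c0d0000000000000000000000000000000000000000000000000000000000000000000000000a050d0b0000000005050e0b00000000050a070b000000000a0a0b0b00c300000000008100c30000000000410000003300000021000000330000001100000000000f0f09000000000f0f0005000000000f000f0300c300330f0f0fff) n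
/-- The vector part of coordinate `i`. -/
def va (i a : ℕ) : ℕ := apm (getP 100 (nat_lit 0xfffffffffffffffffffffffff)
  (nat_lit 0x10000000200001000000000000004000000080000400) i) a
/-- The matrix part of coordinate `i`. -/
def vm (i m : ℕ) : ℕ := 8 * (bt m (10 + i) + 2 * bt m (15 + i) + 4 * bt m (20 + i))
/-- Coordinate `i` of a code. -/
def vc (i c : ℕ) : ℕ := Spor.force c fun c => Nat.xor (va i (ea c)) (vm i (em c))
/-- The code with given coordinates. -/
def rc (s x y : ℕ) : ℕ := Spor.force x fun x => Spor.force y fun y =>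
  pr (s + 2 * bt x 0 + 4 * bt y 0 + 8 * bt x 1 + 16 * bt y 1 + 64 * bt x 2 + 128 * bt y 2)
    (idm + 1024 * bt x 3 + 2048 * bt y 3 + 32768 * bt x 4 + 65536 * bt y 4 + 1048576 * bt x 5 + 2097152 * bt y 5)
/-- The code of an element of `Q`. -/
def qc (c : ℕ) : Bool := Spor.force c fun c => band (Nat.beq (Nat.land (ea c) 800) 0) (Nat.beq (Nat.land (em c) kQ) 0)
/-- For all matrix parts. -/
def forG (f : ℕ → Bool) : Bool := allRange 0 1024 fun k => Spor.force (ut k) fun m => bor (Nat.ble 1 (Nat.land m kQ)) (f m)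
/-- For all vector parts. -/
def forA (f : ℕ → Bool) : Bool := allRange 0 1024 fun a => bor (Nat.ble 1 (Nat.land a 800)) (f a)
/-- The set with a given mask. -/
def st (k : ℕ) : Finset ℕ := (Finset.range 64).filter fun x => k.testBit x
/-- A good pair. -/
def gd (f g : ℕ) : Bool := Spor.force (Nat.land (fx f) (fx g)) fun k =>
  band (Nat.ble 1 f) (band (Nat.beq (Nat.land (cm f) k) (cm f)) (Nat.ble (st k).card 8))

/-- The coset representatives. -/
def dd (n : ℕ) : M := ofc (dc n)
/-- The coordinates. -/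
def v (i : ℕ) (x : M) : ℕ := vc i x.c
/-- `t` lies in coset `n`. -/
def Rep (t : M) (n : ℕ) : Prop := n < 64 ∧ (dd n)⁻¹ * t ∈ Q
/-- The cosets that meet `B`. -/
def N (B : Subgroup M) (n : ℕ) : Prop := ∃ b ∈ B, Rep b n

end

theorem fe {α : Type} (n : ℕ) (k : ℕ → α) : Spor.force n k = k n := (Spor.force_eq n k).trans (Eq.refl _)

theorem mem_st {k x : ℕ} : x ∈ st k ↔ x < 64 ∧ k.testBit x = true := by simp [st]

theorem mem_qc {x : M} : x ∈ Q ↔ qc x.c = true := by
  simp only [mem_Q, qc, fe, band_iff, nbeq_iff, ea_c, em_c, Nat.land_eq]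

theorem forG_spec {f : ℕ → Bool} (h : forG f = true) {q : M} (hq : q ∈ Q) : f (cd q.g) = true := by
  replace h := allRange_zero h
  simp only [fe, bor_iff, Nat.ble_eq, Nat.land_eq] at h
  obtain ⟨k, hk, e⟩ := mem_UT.1 (mem_T.1 (T0_le_T (Q_le_T0 hq)))
  have := (mem_Q.1 hq).2
  rw [e] at this ⊢
  exact (h k hk).resolve_left (by omega)

theorem forA_spec {f : ℕ → Bool} (h : forA f = true) {q : M} (hq : q ∈ Q) : f q.a = true := by
  replace h := allRange_zero h
  simp only [bor_iff, Nat.ble_eq, Nat.land_eq] at h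
  have := (mem_Q.1 hq).1
  exact (h _ q.lt).resolve_left (by omega)

theorem apm_xor (X a b : ℕ) : apm X (a ^^^ b) = apm X a ^^^ apm X b := by simp only [apm_eq, lin_xor]

theorem act_xor (n a b : ℕ) : act n (a ^^^ b) = act n a ^^^ act n b := apm_xor _ _ _

theorem v_eq (i : ℕ) (x : M) : v i x = va i x.a ^^^ vm i (cd x.g) := by
  simp only [v, vc, fe, ea_c, em_c, Nat.xor_eq]

theorem v_mul {i : ℕ} (hi : i < 2) {x y : M} (hx : x ∈ Q) (hy : y ∈ Q) : v i (x * y) = v i x ^^^ v i y := by
  have k1 : forG (fun m => Spor.force (mx m) fun X => forA fun a => Spor.force (apm X a) fun b =>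
    allLt 2 fun i => Nat.beq (va i b) (va i a)) = true := by decide +kernel
  have k2 : forG (fun m => forG fun m' => Spor.force (mm m m') fun b =>
    allLt 2 fun i => Nat.beq (vm i b) (Nat.xor (vm i m) (vm i m'))) = true := by decide +kernel
  have h1 := forG_spec k1 hx
  rw [fe] at h1
  replace h1 := forA_spec h1 hy
  have h2 := forG_spec (forG_spec k2 hx) hy
  simp only [fe, allLt_iff, nbeq_iff, Nat.xor_eq] at h1 h2
  rw [v_eq, v_eq, v_eq, mul_a, mul_g, cd_mul, h2 i hi, va, apm_xor, ← va, ← va, ac, h1 i hi]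
  ac_rfl

theorem v_spec {x : M} (hx : x ∈ Q) : x.c = rc (x.a % 2) (v 0 x) (v 1 x) ∧ ∀ i < 2, v i x < 64 := by
  have k : forG (fun m => forA fun a => Spor.force (pr a m) fun c => band (Nat.beq c (rc (a % 2) (vc 0 c) (vc 1 c)))
    (allLt 2 fun i => blt (vc i c) 64)) = true := by decide +kernel
  simpa only [fe, allLt_iff, nbeq_iff, band_iff, blt_iff, ← c_eq, v] using forA_spec (forG_spec k hx) hx

theorem v_one {i : ℕ} (hi : i < 2) : v i 1 = 0 := by simpa using v_mul hi Q.one_mem Q.one_mem

theorem v_inv {i : ℕ} (hi : i < 2) {x : M} (hx : x ∈ Q) : v i x⁻¹ = v i x := by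
  have := v_mul hi (inv_mem hx) hx
  rw [inv_mul_cancel, v_one hi] at this
  exact Nat.xor_eq_zero_iff.1 this.symm

theorem v_z {i : ℕ} (hi : i < 2) : v i z = 0 := by
  rw [v, z, c_e (by norm_num)]; revert i; decide +kernel

theorem dc_spec : ∀ n < 64, ok (em (dc n)) = true ∧ em (dc n) &&& 549822 = 0 ∧ (qc (dc n) = true ↔ n = 0) := by
  decide +kernel

theorem dd_c {n : ℕ} (hn : n < 64) : (dd n).c = dc n := c_ofc (dc_spec n hn).1

theorem dd_T0 {n : ℕ} (hn : n < 64) : dd n ∈ T0 := mem_T0.2 (by rw [← em_c, dd_c hn]; exact (dc_spec n hn).2.1)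

theorem conj_Q {t q : M} (ht : t ∈ T0) (hq : q ∈ Q) : t * q * t⁻¹ ∈ Q :=
  (mem_normalizer_iff.1 (Y_le_nQ (T_le_Y (T0_le_T ht))) q).1 hq

theorem nm_spec : ∀ n < 64, ∀ m < 64, nm n m < 64 ∧ mu (dc n) (dc m) = dc (nm n m) := by
  have : allLt 64 (fun n => Spor.force (dc n) fun c => allLt 64 fun m => Spor.force (nm n m) fun k =>
    band (blt k 64) (Nat.beq (mu c (dc m)) (dc k))) = true := by decide +kernel
  simpa only [fe, allLt_iff, nbeq_iff, band_iff, blt_iff] using this

theorem Rep.mul {t t' : M} {n m : ℕ} (h : Rep t n) (h' : Rep t' m) : Rep (t * t') (nm n m) := by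
  have k := nm_spec n h.1 m h'.1
  refine ⟨k.1, ?_⟩
  have e : dd (nm n m) = dd n * dd m := c_inj (by rw [c_mul, dd_c h.1, dd_c h'.1, dd_c k.1, k.2])
  have := mul_mem (conj_Q (inv_mem (dd_T0 h'.1)) h.2) h'.2
  rw [e]
  convert this using 1
  group

theorem Rep.zero {t : M} {n : ℕ} (h : Rep t n) : t ∈ Q ↔ n = 0 := by
  rw [← (dc_spec n h.1).2.2, ← dd_c h.1, ← mem_qc, ← Q.inv_mem_iff (x := dd n)]
  exact ⟨fun ht => (Q.mul_mem_cancel_right ht).1 h.2, fun hd => (Q.mul_mem_cancel_left hd).1 h.2⟩

theorem rep_of {t : M} (h : band (blt (ix t.c) 64) (qc (mu (iv (dc (ix t.c))) t.c)) = true) : ∃ n, Rep t n := by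
  rw [band_iff, blt_iff] at h
  exact ⟨_, h.1, mem_qc.2 (by rw [c_mul, c_inv, dd_c h.1]; exact h.2)⟩

theorem exists_rep {t : M} (ht : t ∈ T0) : ∃ n, Rep t n := by
  have k := @mem_closure_of_mul M _ _ {t | ∃ n, Rep t n} (rep_of (by rw [c_one]; decide +kernel))
    fun a ⟨_, ha⟩ b ⟨_, hb⟩ => ⟨_, ha.mul hb⟩
  refine k.1 (sb_le (j := 0) (k := 549822) (by decide +kernel) (fun b hb _ => k.2 (rep_of ?_))
    (fun i hi l hl h1 h2 => k.2 (rep_of ?_)) ht)
  · rw [c_e (Nat.pow_lt_pow_right (n := 10) one_lt_two hb)]; revert b; decide +kernel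
  · rw [c_ι, cd_E hi hl h1]; revert l; revert i; decide +kernel

theorem v_dd {i n : ℕ} (hi : i < 2) (hn : n < 64) {q : M} (hq : q ∈ Q) : v i (dd n * q * (dd n)⁻¹) = act n (v i q) := by
  have k := @mem_closure_of_mul M _ _ {q | q ∈ Q ∧ v i (dd n * q * (dd n)⁻¹) = act n (v i q)}
    ⟨Q.one_mem, by simpa [v_one hi] using (act_xor n 0 0).symm⟩ fun a ha b hb => ⟨mul_mem ha.1 hb.1, by
      rw [v_mul hi ha.1 hb.1, act_xor, ← ha.2, ← hb.2, ← v_mul hi (conj_Q (dd_T0 hn) ha.1) (conj_Q (dd_T0 hn) hb.1)]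
      congr 1; group⟩
  have c : allLt 64 (fun n => Spor.force (dc n) fun d => Spor.force (iv d) fun d' => band
      (allLt 10 fun b => bor (Nat.testBit 800 b) (Spor.force (pr (2 ^ b) idm) fun c => Spor.force (mu (mu d c) d') fun y =>
        band (qc c) (allLt 2 fun i => Nat.beq (vc i y) (act n (vc i c)))))
      (allLt 5 fun a => allLt 5 fun l => bor (Nat.beq a l) (bor (Nat.testBit kQ (5 * l + a))
        (Spor.force (pr 0 (idm + 2 ^ (5 * l + a))) fun c => Spor.force (mu (mu d c) d') fun y =>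
          band (qc c) (allLt 2 fun i => Nat.beq (vc i y) (act n (vc i c))))))) = true := by decide +kernel
  simp only [fe, allLt_iff, nbeq_iff, band_iff, bor_iff] at c
  refine (k.1 (sb_le (j := 800) (k := kQ) (by decide +kernel) (fun b hb h => k.2 ?_) (fun a ha l hl h1 h2 => k.2 ?_) hq)).2
  · have := ((c n hn).1 b hb).resolve_left (by simp [h])
    rw [← c_e (Nat.pow_lt_pow_right (n := 10) one_lt_two hb), ← dd_c hn, ← c_inv, ← c_mul, ← c_mul] at this
    exact ⟨mem_qc.2 this.1, this.2 i hi⟩
  · have := (((c n hn).2 a ha l hl).resolve_left h1).resolve_left (by simp [h2])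
    rw [← cd_E ha hl h1, ← c_ι, ← dd_c hn, ← c_inv, ← c_mul, ← c_mul] at this
    exact ⟨mem_qc.2 this.1, this.2 i hi⟩

theorem Rep.conj {t : M} {n i : ℕ} (h : Rep t n) (hi : i < 2) {q : M} (hq : q ∈ Q) : v i (t * q * t⁻¹) = act n (v i q) := by
  have := v_dd hi h.1 (mul_mem (mul_mem h.2 hq) (inv_mem h.2))
  rw [v_mul hi (mul_mem h.2 hq) (inv_mem h.2), v_mul hi h.2 hq, v_inv hi h.2, Nat.xor_comm, ← Nat.xor_assoc, Nat.xor_self,
    Nat.zero_xor] at this
  rw [← this]
  congr 1; group

theorem fx_spec : ∀ n < 64, ∀ x < 64, ((fx n).testBit x = true ↔ act n x = x) ∧ (cm n).testBit (x ^^^ act n x) = true := by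
  have : allLt 64 (fun n => allLt 64 fun x => Spor.force (act n x) fun y =>
    band ((fx n).testBit x == Nat.beq y x) ((cm n).testBit (Nat.xor x y))) = true := by decide +kernel
  simp only [fe, allLt_iff, band_iff, beq_iff_eq, Nat.xor_eq] at this
  exact fun n hn x hx => ⟨by rw [(this n hn x hx).1, nbeq_iff], (this n hn x hx).2⟩

variable {B : Subgroup M}

theorem N.lt {n : ℕ} (h : N B n) : n < 64 := h.choose_spec.2.1

theorem N.mul {n m : ℕ} (h : N B n) (h' : N B m) : N B (nm n m) :=
  have ⟨_, ha, h⟩ := h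
  have ⟨_, hb, h'⟩ := h'
  ⟨_, mul_mem ha hb, h.mul h'⟩

theorem N.sq (h2 : ∀ b ∈ B, b * b ∈ Q) {n : ℕ} (h : N B n) : nm n n = 0 :=
  have ⟨b, hb, h⟩ := h
  (h.mul h).zero.1 (h2 b hb)

theorem rel_le (hB : B ≤ T0) {S : Finset ℕ} (h : ∀ n, N B n → n ∈ S) : Q.relIndex B ≤ S.card := by
  choose r hr using fun x : B ⧸ Q.subgroupOf B => exists_rep (hB x.out.2)
  rw [← Nat.card_eq_finsetCard]
  refine Nat.card_le_card_of_injective (fun x : B ⧸ Q.subgroupOf B => (⟨r x, h _ ⟨_, x.out.2, hr x⟩⟩ : S)) fun x y e => ?_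
  have e' : r x = r y := congrArg Subtype.val e
  rw [← x.out_eq, ← y.out_eq]
  refine QuotientGroup.eq.2 (mem_subgroupOf.2 ?_)
  have := mul_mem (inv_mem (hr x).2) (hr y).2
  rw [e'] at this
  simpa [mul_assoc] using this

theorem cov_of (hB : B ≤ T0) {f g1 g2 g3 c : ℕ} (hf : N B f) (h0 : f ≠ 0) (h1 : N B g1) (h2 : N B g2) (h3 : N B g3)
    (hc : cm f &&& (fx g1 &&& fx g2 &&& fx g3) = cm f) (hk : (st (fx g1 &&& fx g2 &&& fx g3)).card ≤ c) :
    ∃ H f, Cov B H f ∧ Nat.card H ≤ 2 * (c * c) := by
  set k := fx g1 &&& fx g2 &&& fx g3 with ek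
  have hk' : ∀ x < 64, k.testBit x = true ↔ (act g1 x = x ∧ act g2 x = x) ∧ act g3 x = x := fun x hx => by
    simp only [ek, Nat.testBit_and, Bool.and_eq_true, (fx_spec _ h1.lt x hx).1, (fx_spec _ h2.lt x hx).1, (fx_spec _ h3.lt x hx).1]
  have a0 : ∀ n, act n 0 = 0 := fun n => by simpa using act_xor n 0 0
  have m := @mem_closure_of_mul M _ _ {q | q ∈ Q ∧ ∀ i < 2, k.testBit (v i q) = true}
    ⟨Q.one_mem, fun i hi => by rw [v_one hi, hk' 0 (by norm_num)]; simp [a0]⟩ fun a ha b hb => ⟨mul_mem ha.1 hb.1, fun i hi => by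
      have e1 := (hk' _ ((v_spec ha.1).2 i hi)).1 (ha.2 i hi)
      have e2 := (hk' _ ((v_spec hb.1).2 i hi)).1 (hb.2 i hi)
      rw [hk' _ ((v_spec (mul_mem ha.1 hb.1)).2 i hi), v_mul hi ha.1 hb.1]
      simp only [act_xor, e1, e2, and_self]⟩
  generalize Subgroup.closure {q | q ∈ Q ∧ ∀ i < 2, k.testBit (v i q) = true} = H at m
  replace m : ∀ {q}, q ∈ H ↔ q ∈ Q ∧ ∀ i < 2, k.testBit (v i q) = true := @m
  obtain ⟨b, hb, hf⟩ := hf
  refine ⟨H, b, ⟨hb, fun c => h0 (hf.zero.1 c), fun q hq => (m.1 hq).1, fun q hq => m.2 ?_, fun q hq h => m.2 ⟨hq, fun i hi => ?_⟩⟩, ?_⟩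
  · have hq' := conj_Q (hB hb) (inv_mem hq)
    rw [show q * b * q⁻¹ * b⁻¹ = q * (b * q⁻¹ * b⁻¹) by group]
    refine ⟨mul_mem hq hq', fun i hi => ?_⟩
    have := (fx_spec f hf.1 _ ((v_spec hq).2 i hi)).2
    rw [← hc, Nat.testBit_and, Bool.and_eq_true] at this
    rw [v_mul hi hq hq', hf.conj hi (inv_mem hq), v_inv hi hq]
    exact this.2
  · have : ∀ g, N B g → act g (v i q) = v i q := fun g ⟨b, hb, hg⟩ => by
      rw [← hg.conj hi hq]
      rcases h b hb with e | e
      · rw [e]
      · rw [e, v_mul hi z_mem_Q hq, v_z hi, Nat.zero_xor]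
    exact (hk' _ ((v_spec hq).2 i hi)).2 ⟨⟨this _ h1, this _ h2⟩, this _ h3⟩
  · have w : ∀ i < 2, ∀ q : H, v i q ∈ st k := fun i hi q => mem_st.2 ⟨(v_spec (m.1 q.2).1).2 i hi, (m.1 q.2).2 i hi⟩
    clear_value k
    let F : H → Fin 2 × st k × st k := fun q => (⟨q.1.a % 2, Nat.mod_lt _ two_pos⟩, ⟨_, w 0 two_pos q⟩, ⟨_, w 1 one_lt_two q⟩)
    have hF : Function.Injective F := fun x y e => by
      simp only [F, Prod.mk.injEq, Fin.mk.injEq, Subtype.mk.injEq] at e
      exact Subtype.ext (c_inj (by rw [(v_spec (m.1 x.2).1).1, (v_spec (m.1 y.2).1).1, e.1, e.2.1, e.2.2]))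
    refine (Nat.card_le_card_of_injective F hF).trans ?_
    rw [Nat.card_prod, Nat.card_prod, Nat.card_eq_finsetCard, Nat.card_fin]
    gcongr

end SQk

open SQk

theorem cov1 {B : Subgroup M} (hB : B ≤ T0) (h2 : ∀ b ∈ B, b * b ∈ Q) (h : ¬ B ≤ Q) : ∃ H f, Cov B H f ∧ Nat.card H ≤ 512 := by
  obtain ⟨b, hb, hq⟩ := SetLike.not_le_iff_exists.1 h
  obtain ⟨f, hf⟩ := exists_rep (hB hb)
  have hN : N B f := ⟨b, hb, hf⟩
  have k : ∀ f < 64, f ≠ 0 → nm f f = 0 → cm f &&& (fx f &&& fx f &&& fx f) = cm f ∧ (st (fx f &&& fx f &&& fx f)).card ≤ 16 := by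
    decide +kernel
  have h0 : f ≠ 0 := fun c => hq (hf.zero.2 c)
  exact cov_of hB hN h0 hN hN hN (k f hf.1 h0 (hN.sq h2)).1 (k f hf.1 h0 (hN.sq h2)).2

theorem cov3 {B : Subgroup M} (hB : B ≤ T0) (h2 : ∀ b ∈ B, b * b ∈ Q) (h : 8 ≤ Q.relIndex B) :
    ∃ H f, Cov B H f ∧ Nat.card H ≤ 128 := by
  by_contra c
  have ng : ∀ f g, N B f → N B g → gd f g ≠ true := fun f g hf hg e => c (by
    simp only [gd, fe, band_iff, Nat.ble_eq, nbeq_iff, Nat.land_eq] at e
    refine cov_of (c := 8) hB hf (by omega) hf hg hg ?_ ?_ <;> rw [Nat.and_assoc, Nat.and_self]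
    exacts [e.2.1, e.2.2])
  have k1 : allLt 64 (fun a => bor (Nat.ble 1 (nm a a)) (allLt 64 fun n => bor (Nat.ble 1 (nm n n))
    (bor (Spor.force (nm a n) fun p => Nat.ble 1 (nm p p)) (bor ((bp a).testBit n) (bor (gd a n) (gd n a)))))) = true := by
    decide +kernel
  have k2 : allLt 64 (fun a => bor (Nat.beq a 0) (allLt 64 fun b => bor (Nat.beq b 0) (bor (Nat.beq b a) (bor (!(bp a).testBit b)
    (Spor.force (Nat.land (Nat.land (bp a) (bp b)) (bp (nm a b))) fun k => blt (st k).card 8))))) = true := by decide +kernel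
  simp only [fe, allLt_iff, bor_iff, Nat.ble_eq, nbeq_iff, blt_iff, Nat.land_eq, Bool.not_eq_true'] at k1 k2
  have s : ∀ a n, N B a → N B n → (bp a).testBit n = true := fun a n ha hn => by
    have e1 := ha.sq h2; have e2 := hn.sq h2; have e3 := (ha.mul hn).sq h2
    exact (((((k1 a ha.lt).resolve_left (by omega)) n hn.lt).resolve_left (by omega)).resolve_left (by omega)).resolve_right
      fun e => e.elim (ng _ _ ha hn) (ng _ _ hn ha)
  obtain ⟨a, ha, a0⟩ : ∃ a, N B a ∧ a ≠ 0 := by
    by_contra! c'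
    have := rel_le hB (S := {0}) fun n hn => by simp [c' n hn]
    simp at this; omega
  obtain ⟨b, hb, b0, ba⟩ : ∃ b, N B b ∧ b ≠ 0 ∧ b ≠ a := by
    by_contra! c'
    have := (rel_le hB (S := {0, a}) fun n hn => by
      by_cases e : n = 0
      · simp [e]
      · simp [c' n hn e]).trans Finset.card_le_two
    omega
  have := rel_le hB (S := st (bp a &&& bp b &&& bp (nm a b))) fun n hn => mem_st.2 ⟨hn.lt, by
    simp only [Nat.testBit_and, s _ n ha hn, s _ n hb hn, s _ n (ha.mul hb) hn, Bool.and_self]⟩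
  have := (((((k2 a ha.lt).resolve_left a0) b hb.lt).resolve_left b0).resolve_left ba).resolve_left (by simp [s a b ha hb])
  omega

theorem cov4 {B : Subgroup M} (hB : B ≤ T0) (h2 : ∀ b ∈ B, b * b ∈ Q) (h : 16 ≤ Q.relIndex B) :
    Q.relIndex B = 16 ∧ ∃ H f, Cov B H f ∧ Nat.card H ≤ 32 := by
  have k : ∀ a < 64, nm a a = 0 → Nat.testBit 252645135 a = true ∨
      ((Finset.range 64).filter fun n => nm n n = 0 ∧ nm (nm a n) (nm a n) = 0).card < 16 := by decide +kernel
  have hF : ∀ a, N B a → a ∈ st 252645135 := fun a ha => mem_st.2 ⟨ha.lt, (k a ha.lt (ha.sq h2)).resolve_right fun c => by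
    have := rel_le hB (S := (Finset.range 64).filter fun n => nm n n = 0 ∧ nm (nm a n) (nm a n) = 0) fun n hn =>
      Finset.mem_filter.2 ⟨Finset.mem_range.2 hn.lt, hn.sq h2, (ha.mul hn).sq h2⟩
    omega⟩
  have c16 : (st 252645135).card = 16 := by decide +kernel
  have hN : ∀ a ∈ st 252645135, N B a := fun a ha => by
    by_contra c
    have := rel_le hB (S := (st 252645135).erase a) fun n hn => Finset.mem_erase.2 ⟨fun e => c (e ▸ hn), hF n hn⟩
    rw [Finset.card_erase_of_mem ha] at this
    omega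
  exact ⟨le_antisymm (c16 ▸ rel_le hB hF) h, cov_of (c := 4) hB (hN 1 (by decide +kernel)) one_ne_zero (hN 1 (by decide +kernel))
    (hN 2 (by decide +kernel)) (hN 16 (by decide +kernel)) (by decide +kernel) (by decide +kernel)⟩

end Cfsg.Agent.R20
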