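import Mathlib
import Cfsg.Agent.R20.Mod2

set_option autoImplicit false

namespace Cfsg.Agent.R20

open Cfsg.Agent.Spor Cfsg.Agent.Inv.Fz Subgroup

variable {V : Type*} [AddCommGroup V] [Module (ZMod 2) V] {ρ : Representation (ZMod 2) L5 V} {u : V}

namespace Mod3

/-- For each decomposable bivector a matrix that maps `e_0 ∧ e_1` to it. -/
def tab : ℕ := nat_lit 0x4106ef000000000000000000000000020836780000000000000000000000000000000820d5e00000000000000000000000000000000000001041a3c000000000000000000000000000000000000000000010419bc00000000000000000000000000000000000000000000000000820c9e0000000000000000000000000000000000000000000000000000000020831780000000000000000000000000000000000000000000000000000000000000041060f00000000000000000000000002083770000000000000000000000000000000000000000000000000000000000000004106ce20835700000000000000000000000000000000000000000000000000000000000000041068e000000000000000000000000020833700000000000000000000000000000000000000000000000000000000000000041064e0000000000000000000000000000000000000000000000000020831700000000000000000000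000000000000000000000000000000000000000000041060e0000000000000820dda000000000000000000000000000000020836680000000000000000000000000000000000000000000000000000000000000000000000000000000000000004106ad00000000000000000000000000000001041a34000000000000208336800000000000000000000000000000000000000000000000000000000820c9a0000000000000000000000000000000000000000000000000000000000000010418b40000000000000000000000000000000000000000000000000000000041060d0000001041bb0000000000000000000000000000000000000000000000000000000004106cc000000000000000000000000000000000000000000000000000000001041ab00000000000000000000000000000000000000000000000000000000041068c00000010419b00000000000000000000000000000000000000000000000000000000041064c0000000000000000000000000000000000000000000000000000000010418b00000000000000000000000000000000000000000000000000000000041060c0000001041bac000000000000000000000000000000000000020836580000000000000000000000000000000000000000000208355800000000000000000000000000000000000000000000000001041a2c000000000000000000000000000000000000000000000000000000000000000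00000000000000000041066b00000000000000000000000000000000000000820c9600000000000000000000000000000000000000000000820c560000000000000000000000000000000000000000000000000041060b0000000000000820dd4000000000000000000000000000000000000000000000000004106ca00000000000000000000000000000000000000820d540000000000000000000000000000000000000000000000000041068a000000000000000000000000000000000000000000000000000000000000000820cd40000000000000000000000000000000000000000000000000041064a00000000000000000000000000000000000000820c540000000000000000000000000000000000000000000000000041060a000000000000000000000000020837480000000000000000000000000000000000000000000208364800000000000000000000000000000000000000000000000001041aa400000000000000000000000000000000000000000001041a2400000000000000000000000000000000000000000000000000820cd200000000000000000000000000000000000000000000820c920000000000000000000000000000000000000000000000000041062900000000000000000000000000000000000000000000410609000000000000000000000000000000000000000000004106e8000000000000000000000000000000000000000000004106c80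00000000000000000000000000000000000000000004106a800000000000000000000000000000000000000000000410688000000000000000000000000000000000000000000004106680000000000000000000000000000000000000000000041064800000000000000000000000000000000000000000000410628000000000000000000000000000000000000000000004106080000002041d9d020e8e0000004083938000000000000810707000000000000000000000000000000000000000000000000000000000000000000000000000000000000000000000000000000000000000000000000000000000000000000000000000000000000000000000000000000000000000000000000000000000000000000000000000000000000000000000000000000000000000000000000000000000000000000000000000000000000000000204199d020c8e0000004083138000000000000810607000000000000000000000000000000000000000000000000004083b300000000000008107464083930000000000000810706000000000000000000000000000000000000000000000000000000000000000000000000000000000000000000000000000000000000000000000000000000000000000000000000000000000000000000000000000000000000000000000000000000000000000000000000000000000000000000000000000000000040833300000000000008106464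08313000000000000081060600000000000000000000000000000000000000000000000000000000000000000000000000000000000000000000000000004083b28000001020e8a0000000000002041c94000000810705000000000000000000000000000000000000000000000000000000000000000000000000000000000000000000000000000000000000000000000000000000000000000000000000000000000000000000000000000000000000000000000000000000004083328000001020c8a00000000000020418940000008106050000000000000000000000000000000000000000000000000000000000000000000000000000000000000000000000000000000000000000000000000000000000000000000000000000000000002041d900000008107440000002041c9000000081070400000000000000000000000000000000000000000000000000000000000000000000000000000000000000000000000000000000000000000000000000000000000000000000000000000000000020419900000008106440000002041890000000810604000000000000000000000000000000000000000000000000000000000000000000000000000000000000000000000000000000000000000000000000000000000000000000000000000000000000000000000000000000000000000000000000000000004103d1a081e0c0000000000000000000000001040e468207030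000000000000000000000000000000000000000000000000000000000000000000000000000000000000000000000000000410351a081a0c0000000000000000000000001040c4682060300000000000000000000000000000000000000000000000000000000000000000000000000000000000000000000000000000000000000000000000000000000000000000000000000000000000000000000000000000000000000000000000000000000000000000000000000000000000000000000000000000000000000000000001040f448207820000000000001040e44820702000000000000000000000000000000000000000000000000000000000000001040d448206820000000000001040c4482060200000000000000000000000000000000000000000000000000000000000000000000000000000000000000000000000000000000000000000000000000000000000000000000000000000000000000000000000000000000000000000000000000000000000000000000000000000000000000000000000000000000000000000000000000000000000000000000000000000000000000000000000000000000000004105e0a082e05041682820b010000000000000000000000000410560a082a05041482820a01000000404159e020a8e00000080829380000000000010105078082b3000000000000101054680829300000000000010105068082b28000002020a8a0000000000004041494000001010505000000404159000000101054400000040414900000010105048102d1c08160c0000000000000000000000002040a470205030000000000002040b450205820000000000002040a4502050200000000000000000000000008104e0c082606041283020901820251c10120e080945040482820460c102206082082000000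

theorem tab_spec : ∀ a < 1024, rk2 a = true → ok (getP 25 33554431 tab a) = true ∧ ac (getP 25 33554431 tab a) 1 = a := by
  have : allLt 1024 (fun a => bor (!rk2 a) (Spor.force (getP 25 33554431 tab a) fun m =>
    band (ok m) (Nat.beq (ac m 1) a))) = true := by decide +kernel
  simp only [allLt_iff, bor_iff, band_iff, nbeq_iff, Spor.force_eq, Bool.not_eq_true'] at this
  exact fun a ha h => (this a ha).resolve_left (by simp [h])

theorem wg_one : ∀ u < 32, ∀ v < 32, wg u v = 1 → u < 4 ∧ v < 4 := by
  have : allLt 32 (fun u => allLt 32 fun v => bor (!Nat.beq (wg u v) 1) (band (blt u 4) (blt v 4))) = true := by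
    decide +kernel
  simp only [allLt_iff, bor_iff, band_iff, blt_iff, Bool.not_eq_true'] at this
  exact fun u hu v hv h => (this u hu v hv).resolve_left (by simp [h])

end Mod3

open Mod3

/-- `L5` is transitive on the decomposable bivectors. -/
theorem exists_ac_one {a : ℕ} (ha : a < 1024) (h : rk2 a = true) : ∃ g : L5, ac (cd g) 1 = a :=
  ⟨el (getP 25 33554431 tab a), by rw [cd_el (tab_spec a ha h).1, (tab_spec a ha h).2]⟩

/-- The stabiliser of `e_0 ∧ e_1`. -/
theorem mem_kY_of_ac {g : L5} (h : ac (cd g) 1 = 1) : g ∈ pat kY := by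
  have h1 := ac_basis (cd g) (i := 0) (j := 1) (by norm_num) (by norm_num)
  obtain ⟨a, b⟩ := wg_one _ (col_lt _ _) _ (col_lt _ _) (h1.symm.trans h)
  rw [mem_pat (by decide +kernel), land_eq_zero]
  intro i hi
  have h2 : ∃ j < 2, ∃ k < 5, 2 ≤ k ∧ i = 5 * j + k := by
    have : i < 10 := by
      by_contra hc
      rw [Nat.testBit_lt_two_pow (lt_of_lt_of_le (by norm_num : kY < 2 ^ 10)
        (Nat.pow_le_pow_right two_pos (not_lt.1 hc)))] at hi
      exact absurd hi (by simp)
    revert hi
    interval_cases i <;> decide
  obtain ⟨j, hj, k, hk, hk2, rfl⟩ := h2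
  rw [← testBit_col _ _ _ hk]
  refine Nat.testBit_lt_two_pow (lt_of_lt_of_le (b := 2 ^ 2) ?_ (Nat.pow_le_pow_right two_pos hk2))
  interval_cases j
  exacts [a, b]

theorem exists_U (hY : ∀ g ∈ pat kY, ρ g u = u) :
    ∃ U : ℕ → V, U 1 = u ∧ ∀ g, ∀ a < 1024, rk2 a = true → ρ g (U a) = U (ac (cd g) a) := by
  classical
  let U : ℕ → V := fun a => if h : ∃ g : L5, ac (cd g) 1 = a then ρ h.choose u else 0
  have key : ∀ g : L5, U (ac (cd g) 1) = ρ g u := fun g => by
    have h : ∃ g' : L5, ac (cd g') 1 = ac (cd g) 1 := ⟨g, rfl⟩
    have h1 : g⁻¹ * h.choose ∈ pat kY := mem_kY_of_ac (by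
      rw [ac_mul _ _ (by norm_num), h.choose_spec, ac_inv_ac _ (by norm_num)])
    have h2 := congrArg (ρ g) (hY _ h1)
    rw [← Module.End.mul_apply, ← map_mul, mul_inv_cancel_left] at h2
    simp only [U, dif_pos h, h2]
  refine ⟨U, by simpa [ac_one] using key 1, fun g a ha h => ?_⟩
  obtain ⟨k, rfl⟩ := exists_ac_one ha h
  rw [← ac_mul _ _ (by norm_num), key, key, map_mul, Module.End.mul_apply]

namespace Mod3

theorem add_self (v : V) : v + v = 0 := by
  rw [← two_smul (ZMod 2), show (2 : ZMod 2) = 0 from rfl, zero_smul]

theorem fx_add {i : ℕ} {v w : V} (hv : Fx ρ i v) : Fx ρ i (v + w) ↔ Fx ρ i w := by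
  unfold Fx at hv ⊢
  rw [map_add, hv, add_right_inj]

theorem kJ_four : kJ 4 = kY := by decide +kernel

theorem fix_Y (hu : Hw ρ u) (h1 : Fx ρ 1 u) (h3 : Fx ρ 3 u) (h4 : Fx ρ 4 u) : ∀ g ∈ pat kY, ρ g u = u := by
  rw [← kJ_four]
  refine hu.fix_of fun i hi hi' hb => ?_
  interval_cases i
  exacts [h1, absurd hb (by decide), h3, h4]

theorem codes : (ac (cd (E 2 1)) 1 = 3 ∧ ac (cd (E 2 1)) 2 = 2 ∧ ac (cd (E 2 1)) 3 = 1 ∧ ac (cd (E 2 1)) 4 = 4 ∧
    ac (cd (E 2 1)) 5 = 7 ∧ ac (cd (E 2 1)) 6 = 6 ∧ ac (cd (E 2 1)) 7 = 5) ∧ ac (cd (E 1 2 * E 2 1)) 1 = 2 ∧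
    (ac (cd (E 1 0)) 1 = 1 ∧ ac (cd (E 1 0)) 2 = 6 ∧ ac (cd (E 1 0)) 3 = 7) ∧ ac (cd (E 0 1 * E 1 0)) 1 = 1 ∧
    ac (cd (E 0 1 * E 1 0)) 2 = 4 ∧ ac (cd (E 0 1 * E 1 0)) 3 = 5 := by
  rw [cd_mul, cd_mul, cd_E (i := 2) (by norm_num) (by norm_num) (by norm_num),
    cd_E (i := 1) (j := 2) (by norm_num) (by norm_num) (by norm_num),
    cd_E (i := 1) (j := 0) (by norm_num) (by norm_num) (by norm_num),
    cd_E (i := 0) (by norm_num) (by norm_num) (by norm_num)]
  decide +kernel

end Mod3

theorem Md.pen (h : Md ρ) (hu : Hw ρ u) (h1 : Fx ρ 1 u) (h3 : Fx ρ 3 u) (h4 : Fx ρ 4 u) : sm ρ 2 u = 0 := by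
  by_contra hne
  obtain ⟨a1, a2, a3⟩ := hu.sm (i := 2) (by norm_num) (by norm_num)
  have hv : Hw ρ (sm ρ 2 u) := ⟨hne, a1⟩
  have a4 := a3 4 le_rfl (by norm_num) (by norm_num) h4
  have n2 : ¬ Fx ρ 2 u := fun h2 => (h.types hu).1 ⟨h1, h2, h3, h4⟩
  have v3 : Fx ρ 3 (sm ρ 2 u) := by
    by_contra n3
    have hw : Hw ρ (u + sm ρ 2 u) := ⟨fun e => n3 (by
      rwa [(eq_neg_of_add_eq_zero_right e).trans (neg_eq_of_add_eq_zero_left (add_self u))]),
      fun g hg => by rw [map_add, hu.fix g hg, a1 g hg]⟩
    rcases (h.types hw).2.2.1 with h5 | h5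
    · rw [add_comm] at h5
      exact n2 ((fx_add a2).1 h5)
    · exact n3 ((fx_add h3).1 h5)
  have hs := h.not_one hv a2 v3 a4
  obtain ⟨b1, b2, b3⟩ := hv.sm (i := 1) le_rfl (by norm_num)
  refine (h.types ⟨hs, b1⟩).1 ⟨b2, ?_, b3 3 (by norm_num) (by norm_num) (by norm_num) v3,
    b3 4 le_rfl (by norm_num) (by norm_num) a4⟩
  obtain ⟨U, rfl, hU⟩ := exists_U (fix_Y hu h1 h3 h4)
  have hU' : ∀ g, ∀ a < 8, 1 ≤ a → ρ g (U a) = U (ac (cd g) a) := fun g a ha ha' =>
    hU g a (by omega) (by interval_cases a <;> decide +kernel)
  obtain ⟨⟨c1, c2, c3, c4, c5, c6, c7⟩, d1, ⟨e1, e2, e3⟩, f1, f2, f3⟩ := codes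
  have e : sm ρ 2 (U 1) = U 1 + U 3 + U 2 := by
    simp only [sm, Nat.add_one_sub_one]
    rw [hU' _ 1 (by norm_num) le_rfl, hU' _ 1 (by norm_num) le_rfl, c1, d1]
  have e' : sm ρ 1 (sm ρ 2 (U 1)) = U 1 + U 2 + U 3 + U 4 + U 5 + U 6 + U 7 := by
    rw [e]
    simp only [sm, Nat.sub_self, map_add]
    rw [hU' _ 1 (by norm_num) le_rfl, hU' _ 1 (by norm_num) le_rfl, hU' _ 2 (by norm_num) (by norm_num),
      hU' _ 2 (by norm_num) (by norm_num), hU' _ 3 (by norm_num) (by norm_num), hU' _ 3 (by norm_num) (by norm_num),
      e1, e2, e3, f1, f2, f3, ← add_zero (U 1 + U 2 + U 3 + U 4 + U 5 + U 6 + U 7), ← add_self (U 1)]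
    abel
  rw [e', Fx]
  simp only [Nat.add_one_sub_one, map_add]
  rw [hU' _ 1 (by norm_num) le_rfl, hU' _ 2 (by norm_num) (by norm_num), hU' _ 3 (by norm_num) (by norm_num),
    hU' _ 4 (by norm_num) (by norm_num), hU' _ 5 (by norm_num) (by norm_num), hU' _ 6 (by norm_num) (by norm_num),
    hU' _ 7 (by norm_num) (by norm_num), c1, c2, c3, c4, c5, c6, c7]
  abel

namespace Mod3

theorem hw_iff : Hw ρ u ↔ u ≠ 0 ∧ ∀ j < 5, ∀ i < j, ρ (E i j) u = u := by
  refine ⟨fun h => ⟨h.ne, fun j hj i hi => h.fix _ ?_⟩, fun h => ⟨h.1, fun g hg => ?_⟩⟩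
  · rw [mem_pat (by decide +kernel), cd_E (hi.trans hj) hj hi.ne]
    revert i j; decide +kernel
  · let H : Subgroup L5 :=
      { carrier := {g | ρ g u = u}
        one_mem' := by simp
        mul_mem' := fun {a b} ha hb => by
          change ρ (a * b) u = u
          rw [map_mul, Module.End.mul_apply, hb, ha]
        inv_mem' := fun {a} ha => by
          change ρ a⁻¹ u = u
          conv_lhs => rw [← ha]
          rw [← Module.End.mul_apply, ← map_mul, inv_mul_cancel, map_one, Module.End.one_apply] }
    refine pat_le (H := H) (by decide +kernel) (fun i hi j hj hij hb => h.2 j hj i ?_) hg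
    revert i j; decide +kernel

variable {τ : L5 ≃* L5} (hτ : ∀ i < 5, ∀ j < 5, i ≠ j → τ (E i j) = E (4 - j) (4 - i))
include hτ

theorem hw_tw : Hw (ρ.comp τ.toMonoidHom) u ↔ Hw ρ u := by
  rw [hw_iff, hw_iff]
  refine and_congr_right fun _ => ⟨fun h j hj i hi => ?_, fun h j hj i hi => ?_⟩
  · have := h (4 - i) (by omega) (4 - j) (by omega)
    change ρ (τ _) u = u at this
    rwa [hτ _ (by omega) _ (by omega) (by omega), show 4 - (4 - i) = i by omega, show 4 - (4 - j) = j by omega] at this
  · change ρ (τ _) u = u
    rw [hτ _ (by omega) _ hj hi.ne]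
    exact h _ (by omega) _ (by omega)

theorem fx_tw : (Fx (ρ.comp τ.toMonoidHom) 1 u ↔ Fx ρ 4 u) ∧ (Fx (ρ.comp τ.toMonoidHom) 2 u ↔ Fx ρ 3 u) ∧
    (Fx (ρ.comp τ.toMonoidHom) 3 u ↔ Fx ρ 2 u) ∧ (Fx (ρ.comp τ.toMonoidHom) 4 u ↔ Fx ρ 1 u) := by
  refine ⟨?_, ?_, ?_, ?_⟩ <;>
  · change ρ (τ _) u = u ↔ _
    rw [hτ _ (by norm_num) _ (by norm_num) (by norm_num)]
    rfl

omit hτ

variable (ρ) in
/-- There is a highest weight vector of type `2` or `3`. -/
def Gd : Prop := ∃ u, Hw ρ u ∧ Fx ρ 1 u ∧ Fx ρ 4 u ∧ (Fx ρ 3 u ∨ Fx ρ 2 u)

theorem gd_one (h : Md ρ) (hu : Hw ρ u) (h2 : Fx ρ 2 u) (h3 : Fx ρ 3 u) (h4 : Fx ρ 4 u) : Gd ρ := by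
  obtain ⟨b1, b2, b3⟩ := hu.sm (i := 1) le_rfl (by norm_num)
  exact ⟨_, ⟨h.not_one hu h2 h3 h4, b1⟩, b2, b3 4 le_rfl (by norm_num) (by norm_num) h4,
    Or.inl (b3 3 (by norm_num) (by norm_num) (by norm_num) h3)⟩

theorem gd_12 (h : Md ρ) (hu : Hw ρ u) (h3 : Fx ρ 3 u) (h4 : Fx ρ 4 u) : Gd ρ := by
  by_cases h1 : Fx ρ 1 u
  · exact ⟨u, hu, h1, h4, Or.inl h3⟩
  by_cases h2 : Fx ρ 2 u
  · exact gd_one h hu h2 h3 h4
  rcases h.not_12 hu h3 h4 h1 h2 with hs | hs
  · obtain ⟨b1, b2, b3⟩ := hu.sm (i := 1) le_rfl (by norm_num)
    exact ⟨_, ⟨hs, b1⟩, b2, b3 4 le_rfl (by norm_num) (by norm_num) h4,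
      Or.inl (b3 3 (by norm_num) (by norm_num) (by norm_num) h3)⟩
  · obtain ⟨b1, b2, b3⟩ := hu.sm (i := 2) (by norm_num) (by norm_num)
    have b4 := b3 4 le_rfl (by norm_num) (by norm_num) h4
    rcases (h.types ⟨hs, b1⟩).2.1 with h5 | h5
    · exact ⟨_, ⟨hs, b1⟩, h5, b4, Or.inr b2⟩
    · exact gd_one h ⟨hs, b1⟩ b2 h5 b4

include hτ in
theorem gd_34 (h : Md ρ) (hu : Hw ρ u) (h1 : Fx ρ 1 u) (h2 : Fx ρ 2 u) : Gd ρ := by
  obtain ⟨v, hv, a, b, c⟩ := gd_12 (h.twist τ) ((hw_tw hτ).2 hu) ((fx_tw hτ).2.2.1.2 h2) ((fx_tw hτ).2.2.2.2 h1)
  exact ⟨v, (hw_tw hτ).1 hv, (fx_tw hτ).2.2.2.1 b, (fx_tw hτ).1.1 a,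
    c.symm.imp (fx_tw hτ).2.1.1 (fx_tw hτ).2.2.1.1⟩

include hτ in
theorem gd (h : Md ρ) : Gd ρ := by
  obtain ⟨u, hu⟩ := h.exists_hw
  obtain ⟨-, t1, t2, t3⟩ := h.types hu
  by_cases h12 : Fx ρ 1 u ∧ Fx ρ 2 u
  · exact gd_34 hτ h hu h12.1 h12.2
  by_cases h34 : Fx ρ 3 u ∧ Fx ρ 4 u
  · exact gd_12 h hu h34.1 h34.2
  have h3 : Fx ρ 3 u := by tauto
  have h2 : Fx ρ 2 u := by tauto
  rcases h.not_14 hu h2 h3 (by tauto) (by tauto) with hs | hs
  · obtain ⟨b1, b2, b3⟩ := hu.sm (i := 1) le_rfl (by norm_num)
    rcases (h.types ⟨hs, b1⟩).2.2.2 with h5 | h5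
    · exact gd_34 hτ h ⟨hs, b1⟩ b2 h5
    · exact gd_12 h ⟨hs, b1⟩ (b3 3 (by norm_num) (by norm_num) (by norm_num) h3) h5
  · obtain ⟨b1, b2, b3⟩ := hu.sm (i := 4) (by norm_num) le_rfl
    rcases (h.types ⟨hs, b1⟩).2.1 with h5 | h5
    · exact gd_34 hτ h ⟨hs, b1⟩ h5 (b3 2 (by norm_num) (by norm_num) (by norm_num) h2)
    · exact gd_12 h ⟨hs, b1⟩ h5 b2

end Mod3

theorem Md.hw (h : Md ρ) : ∃ τ : L5 ≃* L5, ∃ u, u ≠ 0 ∧ (∀ g ∈ pat kY, ρ (τ g) u = u) ∧ sm (ρ.comp τ.toMonoidHom) 2 u = 0 := by
  obtain ⟨τ, hτ⟩ := exists_tau
  obtain ⟨u, hu, h1, h4, h3 | h2⟩ := gd hτ h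
  · exact ⟨MulEquiv.refl _, u, hu.ne, fix_Y hu h1 h3 h4, h.pen hu h1 h3 h4⟩
  · have a := (hw_tw hτ).2 hu
    have b := (fx_tw hτ).1.2 h4
    have c := (fx_tw hτ).2.2.1.2 h2
    have d := (fx_tw hτ).2.2.2.2 h1
    exact ⟨τ, u, hu.ne, fix_Y a b c d, (h.twist τ).pen a b c d⟩

end Cfsg.Agent.R20
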